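import Mathlib

set_option autoImplicit false

/-! Semisimple elements of prime order commuting with a nontrivial unipotent element. -/

namespace Cfsg.Agent.Lib.Helper65.UnipCent

open Module

variable {F V : Type*} [Field F] [Fintype F] [AddCommGroup V] [Module F V] [FiniteDimensional F V]

/-- fixed point counting on an invariant subspace -/
theorem modEq_of_invariant {r : ℕ} [Fact r.Prime] (β : V →ₗ[F] V) (hβ : β ^ r = 1)
    (W : Submodule F V) (hW : ∀ w ∈ W, β w ∈ W) :
    Fintype.card F ^ finrank F W ≡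
      Fintype.card F ^ finrank F (W ⊓ LinearMap.ker (β - 1) : Submodule F V) [MOD r] := by
  classical
  have : Finite V := Module.finite_of_finite F
  have : Fintype W := Fintype.ofFinite _
  let f : Function.End W := fun w => ⟨β w, hW w w.2⟩
  have hf : ∀ (k : ℕ) (w : W), ((f ^ k) w : V) = (β ^ k) w := by
    intro k
    induction k with
    | zero => intro w; rfl
    | succ k ih =>
      intro w
      rw [pow_succ', pow_succ']
      show β ((f ^ k) w : V) = β ((β ^ k) w)
      rw [ih]
  have hfr : f ^ r ^ 1 = 1 := by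
    funext w
    apply Subtype.ext
    rw [pow_one, hf, hβ]
    rfl
  have h1 := Equiv.Perm.card_fixedPoints_modEq hfr
  have h2 : Fintype.card W = Fintype.card F ^ finrank F W := Module.card_eq_pow_finrank
  have h3 : Fintype.card (Function.fixedPoints f) =
      Fintype.card F ^ finrank F (W ⊓ LinearMap.ker (β - 1) : Submodule F V) := by
    rw [← Nat.card_eq_fintype_card, ← Nat.card_eq_fintype_card (α := F),
      ← Module.natCard_eq_pow_finrank]
    refine Nat.card_congr
      { toFun := fun w => ⟨w.1.1, w.1.2, ?_⟩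
        invFun := fun w => ⟨⟨w.1, w.2.1⟩, ?_⟩
        left_inv := fun w => rfl
        right_inv := fun w => rfl }
    · have := congrArg Subtype.val w.2
      show (w.1.1 : V) ∈ LinearMap.ker (β - 1)
      rw [LinearMap.mem_ker, LinearMap.sub_apply, sub_eq_zero]
      exact this
    · have : (w.1 : V) ∈ LinearMap.ker (β - 1) := w.2.2
      rw [LinearMap.mem_ker, LinearMap.sub_apply, sub_eq_zero] at this
      exact Subtype.ext this
  rw [h2, h3] at h1
  exact h1

theorem dichotomy {r n : ℕ} [Fact r.Prime] (hrq : ¬ r ∣ Fintype.card F)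
    (hno : ∀ j, 1 ≤ j → j ≤ n - 2 → ¬ r ∣ Fintype.card F ^ j - 1)
    (β : V →ₗ[F] V) (hβ : β ^ r = 1) (W : Submodule F V) (hW : ∀ w ∈ W, β w ∈ W) :
    W ≤ LinearMap.ker (β - 1) ∨
      finrank F (W ⊓ LinearMap.ker (β - 1) : Submodule F V) + (n - 1) ≤ finrank F W := by
  have hr : r.Prime := Fact.out
  have h1 := modEq_of_invariant β hβ W hW
  have hle : finrank F (W ⊓ LinearMap.ker (β - 1) : Submodule F V) ≤ finrank F W :=
    Submodule.finrank_mono inf_le_left
  obtain ⟨j, hj⟩ := Nat.exists_eq_add_of_le hle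
  have hq : 1 ≤ Fintype.card F := Fintype.card_pos
  rw [hj] at h1
  have h2 : r ∣ Fintype.card F ^ (finrank F (W ⊓ LinearMap.ker (β - 1) : Submodule F V) + j) -
      Fintype.card F ^ finrank F (W ⊓ LinearMap.ker (β - 1) : Submodule F V) :=
    (Nat.modEq_iff_dvd' (Nat.pow_le_pow_right hq (Nat.le_add_right _ _))).1 h1.symm
  rw [pow_add, ← Nat.mul_sub_one] at h2
  have h3 : r ∣ Fintype.card F ^ j - 1 := by
    rcases hr.dvd_mul.1 h2 with h | h
    · exact absurd (hr.dvd_of_dvd_pow h) hrq
    · exact h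
  rcases Nat.eq_zero_or_pos j with h0 | h0
  · left
    have h4 : (W ⊓ LinearMap.ker (β - 1) : Submodule F V) = W :=
      Submodule.eq_of_le_of_finrank_eq inf_le_left (by omega)
    rw [← h4]
    exact inf_le_right
  · right
    by_contra hcon
    exact hno j h0 (by omega) h3

theorem exists_dvd {r n : ℕ} [Fact r.Prime] (hn : 3 ≤ n) (hV : finrank F V = n)
    (hrq : ¬ r ∣ Fintype.card F) (β ν : V →ₗ[F] V) (hβ : β ^ r = 1) (hβ1 : β ≠ 1) (hν0 : ν ≠ 0)
    (k : ℕ) (hνk : ν ^ k = 0) (hc : Commute β ν) :
    ∃ j, 1 ≤ j ∧ j ≤ n - 2 ∧ r ∣ Fintype.card F ^ j - 1 := by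
  classical
  by_contra hcon
  have hno : ∀ j, 1 ≤ j → j ≤ n - 2 → ¬ r ∣ Fintype.card F ^ j - 1 :=
    fun j h1 h2 h3 => hcon ⟨j, h1, h2, h3⟩
  have hcomm : ∀ v, β (ν v) = ν (β v) := fun v => LinearMap.congr_fun hc.eq v
  set K := LinearMap.ker ν with hK
  set I := LinearMap.range ν with hI
  have hKinv : ∀ w ∈ K, β w ∈ K := by
    intro w hw
    rw [hK, LinearMap.mem_ker] at hw ⊢
    rw [← hcomm, hw, map_zero]
  have hIinv : ∀ w ∈ I, β w ∈ I := by
    rintro _ ⟨v, rfl⟩
    exact ⟨β v, (hcomm v).symm⟩
  have hdU : finrank F (LinearMap.ker (β - 1)) ≤ 1 := by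
    rcases dichotomy hrq hno β hβ ⊤ (fun _ _ => trivial) with h | h
    · exfalso
      apply hβ1
      ext v
      have : v ∈ LinearMap.ker (β - 1) := h trivial
      rw [LinearMap.mem_ker, LinearMap.sub_apply, sub_eq_zero] at this
      exact this
    · rw [top_inf_eq, finrank_top, hV] at h
      omega
  have hsum : finrank F I + finrank F K = n := by
    rw [← hV]; exact LinearMap.finrank_range_add_finrank_ker ν
  have hKI : K ⊓ I ≠ ⊥ := by
    obtain ⟨v, hv⟩ : ∃ v, ν v ≠ 0 := by
      by_contra h
      push Not at h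
      exact hν0 (LinearMap.ext h)
    have hex : ∃ m, (ν ^ m) v = 0 := ⟨k, by rw [hνk]; rfl⟩
    set m := Nat.find hex with hm
    have hm0 : (ν ^ m) v = 0 := Nat.find_spec hex
    have hm2 : 2 ≤ m := by
      by_contra h
      have : m = 0 ∨ m = 1 := by omega
      rcases this with h | h
      · rw [h, pow_zero] at hm0
        apply hv
        have : v = 0 := hm0
        rw [this, map_zero]
      · rw [h, pow_one] at hm0
        exact hv hm0
    have hw : (ν ^ (m - 1)) v ≠ 0 := Nat.find_min hex (by omega)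
    intro hbot
    apply hw
    have : (ν ^ (m - 1)) v ∈ K ⊓ I := by
      constructor
      · show (ν ^ (m - 1)) v ∈ LinearMap.ker ν
        rw [LinearMap.mem_ker]
        have : ν ((ν ^ (m - 1)) v) = (ν ^ m) v := by
          conv_rhs => rw [show m = (m - 1) + 1 by omega, pow_succ']
          rfl
        rw [this, hm0]
      · refine ⟨(ν ^ (m - 2)) v, ?_⟩
        conv_rhs => rw [show m - 1 = (m - 2) + 1 by omega, pow_succ']
        rfl
    rw [hbot] at this
    exact this
  have hK1 : 1 ≤ finrank F K := by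
    by_contra h
    have h0 : finrank F K = 0 := by omega
    rw [Submodule.finrank_eq_zero] at h0
    apply hKI
    rw [h0, bot_inf_eq]
  have hI1 : 1 ≤ finrank F I := by
    by_contra h
    have h0 : finrank F I = 0 := by omega
    rw [Submodule.finrank_eq_zero] at h0
    apply hKI
    rw [h0, inf_bot_eq]
  rcases dichotomy hrq hno β hβ K hKinv with h1 | h1 <;>
    rcases dichotomy hrq hno β hβ I hIinv with h2 | h2
  · have a1 := Submodule.finrank_mono h1
    have a2 := Submodule.finrank_mono h2
    omega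
  · have h3 : finrank F (I ⊓ LinearMap.ker (β - 1) : Submodule F V) = 0 := by omega
    rw [Submodule.finrank_eq_zero] at h3
    apply hKI
    rw [eq_bot_iff, ← h3]
    exact le_inf inf_le_right (inf_le_left.trans h1)
  · have h3 : finrank F (K ⊓ LinearMap.ker (β - 1) : Submodule F V) = 0 := by omega
    rw [Submodule.finrank_eq_zero] at h3
    apply hKI
    rw [eq_bot_iff, ← h3]
    exact le_inf inf_le_left (inf_le_right.trans h2)
  · omega

end Cfsg.Agent.Lib.Helper65.UnipCent
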