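import Mathlib

set_option autoImplicit false

namespace Cfsg.Agent.Lib.Helper65

universe u v

/-- internal direct product of two disjoint normal subgroups -/
theorem sup_equiv_prod {N : Type*} [Group N] (A B : Subgroup N) (hA : A.Normal) (hB : B.Normal)
    (hd : Disjoint A B) : Nonempty (↥(A ⊔ B) ≃* A × B) := by
  have comm : ∀ (a : A) (b : B), Commute (A.subtype a) (B.subtype b) := fun a b =>
    Subgroup.commute_of_normal_of_disjoint A B hA hB hd a b a.2 b.2
  let f : A × B →* N := A.subtype.noncommCoprod B.subtype comm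
  have hf : Function.Injective f := by
    rw [MonoidHom.noncommCoprod_injective]
    refine ⟨A.subtype_injective, B.subtype_injective, ?_⟩
    rw [Subgroup.range_subtype, Subgroup.range_subtype]
    exact hd
  have hr : f.range = A ⊔ B := by
    rw [MonoidHom.noncommCoprod_range, Subgroup.range_subtype, Subgroup.range_subtype]
  exact ⟨((MonoidHom.ofInjective hf).trans (MulEquiv.subgroupCongr hr)).symm⟩

/-- `T^m × T ≃* T^(m+1)` -/
def finSuccEquiv (T : Type*) [Group T] (m : ℕ) : (Fin m → T) × T ≃* (Fin (m + 1) → T) where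
  toFun p := Fin.cons p.2 p.1
  invFun f := (Fin.tail f, f 0)
  left_inv p := by simp
  right_inv f := by simp
  map_mul' p q := by
    funext i
    refine Fin.cases ?_ (fun j => ?_) i <;> simp

/-- A nontrivial finite group with no proper nontrivial normal subgroup invariant under a group
of automorphisms is a direct power of a simple group. -/
theorem charSimple {N : Type u} [Group N] [Finite N] [Nontrivial N] {Γ : Type v} [Group Γ]
    (θ : Γ →* MulAut N)
    (hmin : ∀ M : Subgroup N, M.Normal → (∀ γ, M.map (θ γ).toMonoidHom ≤ M) → M = ⊥ ∨ M = ⊤) :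
    ∃ (T : Subgroup N) (m : ℕ), IsSimpleGroup T ∧ 0 < m ∧ Nonempty (N ≃* (Fin m → T)) := by
  classical
  -- a nontrivial normal subgroup of minimal order
  let 𝒯 : Set (Subgroup N) := {T | T.Normal ∧ T ≠ ⊥}
  obtain ⟨T, ⟨hTn, hTne⟩, hTmin⟩ := Set.exists_min_image 𝒯 (fun T => Nat.card T) (Set.toFinite _)
    ⟨⊤, inferInstance, top_ne_bot⟩
  have hb : ∀ X K : Subgroup N, X.Normal → K.Normal → Nat.card X = Nat.card T →
      K ⊓ X = ⊥ ∨ X ≤ K := by
    intro X K hX hK hc
    by_cases h : K ⊓ X = ⊥
    · exact Or.inl h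
    · right
      have h1 := hTmin (K ⊓ X) ⟨Subgroup.normal_inf_normal K X, h⟩
      have h2 : K ⊓ X = X := Subgroup.eq_of_le_of_card_ge inf_le_right (by rw [hc]; exact h1)
      rw [← h2]; exact inf_le_left
  let Tc : Γ → Subgroup N := fun γ => T.map (θ γ).toMonoidHom
  have hTcn : ∀ γ, (Tc γ).Normal := fun γ => hTn.map _ (θ γ).surjective
  have hTcc : ∀ γ, Nat.card (Tc γ) = Nat.card T := fun γ =>
    Subgroup.card_map_of_injective (θ γ).injective
  have hsup : (⨆ γ, Tc γ) = ⊤ := by
    have hn : (⨆ γ, Tc γ).Normal := Subgroup.iSup_normal _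
    have hinv : ∀ δ, (⨆ γ, Tc γ).map (θ δ).toMonoidHom ≤ ⨆ γ, Tc γ := by
      intro δ
      rw [Subgroup.map_iSup]
      apply iSup_le
      intro γ
      refine le_trans ?_ (le_iSup Tc (δ * γ))
      rintro _ ⟨_, ⟨x, hx, rfl⟩, rfl⟩
      exact ⟨x, hx, by simp⟩
    rcases hmin _ hn hinv with h | h
    · exfalso
      apply hTne
      rw [eq_bot_iff, ← h]
      refine le_trans ?_ (le_iSup Tc 1)
      intro x hx
      exact ⟨x, hx, by simp⟩
    · exact h
  have hsimple : IsSimpleGroup T := by
    rw [Subgroup.isSimpleGroup_iff]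
    refine ⟨hTne, fun K hK hKn => ?_⟩
    have hKN : K.Normal := by
      rw [← Subgroup.normalizer_eq_top_iff, eq_top_iff, ← hsup]
      apply iSup_le
      intro γ
      rw [Subgroup.normal_subgroupOf_iff_le_normalizer hK] at hKn
      rcases hb (Tc γ) T (hTcn γ) hTn (hTcc γ) with h | h
      · intro x hx
        rw [Subgroup.mem_normalizer_iff]
        intro k
        have hcomm : ∀ y ∈ T, x * y * x⁻¹ = y := by
          intro y hy
          have := Subgroup.commute_of_normal_of_disjoint T (Tc γ) hTn (hTcn γ)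
            (disjoint_iff.mpr h) y x hy hx
          rw [← this.eq, mul_inv_cancel_right]
        constructor
        · intro hk
          show x * k * x⁻¹ ∈ K
          rw [hcomm k (hK hk)]; exact hk
        · intro hk
          have hk' : x * k * x⁻¹ ∈ K := hk
          have h1 : k ∈ T := by
            have := hTn.conj_mem _ (hK hk') x⁻¹
            simpa [mul_assoc] using this
          rw [hcomm k h1] at hk'
          exact hk'
      · exact h.trans hKn
    by_cases hKb : K = ⊥
    · exact Or.inl hKb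
    · right
      exact Subgroup.eq_of_le_of_card_ge hK (hTmin K ⟨hKN, hKb⟩)
  let 𝒟 : Set (Subgroup N) := {D | D.Normal ∧ ∃ m : ℕ, 0 < m ∧ Nonempty (D ≃* (Fin m → T))}
  obtain ⟨D, ⟨hDn, m, hm, ⟨e⟩⟩, hDmax⟩ := (Set.toFinite 𝒟).exists_maximal
    ⟨T, hTn, 1, one_pos, ⟨(MulEquiv.funUnique (Fin 1) T).symm⟩⟩
  have hDtop : D = ⊤ := by
    rw [eq_top_iff, ← hsup]
    apply iSup_le
    intro γ
    rcases hb (Tc γ) D (hTcn γ) hDn (hTcc γ) with h | h
    · have hmem : D ⊔ Tc γ ∈ 𝒟 := by
        refine ⟨Subgroup.sup_normal D (Tc γ), m + 1, Nat.succ_pos m, ?_⟩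
        obtain ⟨e1⟩ := sup_equiv_prod D (Tc γ) hDn (hTcn γ) (disjoint_iff.mpr h)
        let e2 : Tc γ ≃* T := ((θ γ).subgroupMap T).symm
        exact ⟨(e1.trans (e.prodCongr e2)).trans (finSuccEquiv T m)⟩
      exact le_sup_right.trans (hDmax hmem le_sup_left)
    · exact h
  refine ⟨T, m, hsimple, hm, ?_⟩
  exact ⟨(Subgroup.topEquiv.symm.trans (MulEquiv.subgroupCongr hDtop.symm)).trans e⟩

/-- a carrier in `Type` without algebraic instances -/
def Carrier (n : ℕ) : Type := Fin n

/-- every finite group has a copy in `Type` -/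
theorem exists_type_copy (T : Type u) [Group T] [Finite T] :
    ∃ (T' : Type) (_ : Group T'), Nonempty (T ≃* T') := by
  let e : T ≃ Carrier (Nat.card T) := Finite.equivFin T
  let _ : Group (Carrier (Nat.card T)) := e.symm.group
  exact ⟨Carrier (Nat.card T), inferInstance, ⟨(e.symm.mulEquiv).symm⟩⟩

/-- A minimal normal subgroup of a finite group is a direct power of a simple group
(with the simple group realised as a subgroup). -/
theorem minNormal_power {H : Type u} [Group H] [Finite H] (N : Subgroup H) [hNn : N.Normal]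
    (hN : N ≠ ⊥) (hmin : ∀ M : Subgroup H, M.Normal → M ≤ N → M = ⊥ ∨ M = N) :
    ∃ (T : Subgroup N) (m : ℕ), IsSimpleGroup T ∧ 0 < m ∧ Nonempty (N ≃* (Fin m → T)) := by
  have : Nontrivial N := (Subgroup.nontrivial_iff_ne_bot N).mpr hN
  apply charSimple (MulAut.conjNormal : H →* MulAut N)
  intro M hM hinv
  have hMn : (M.map N.subtype).Normal := by
    constructor
    rintro _ ⟨x, hx, rfl⟩ g
    refine ⟨MulAut.conjNormal g x, hinv g ⟨x, hx, rfl⟩, ?_⟩
    simp
  rcases hmin _ hMn (Subgroup.map_subtype_le M) with h | h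
  · left
    rwa [Subgroup.map_eq_bot_iff_of_injective _ N.subtype_injective] at h
  · right
    rw [eq_top_iff]
    intro x _
    have : (x : H) ∈ M.map N.subtype := by rw [h]; exact x.2
    obtain ⟨y, hy, hyx⟩ := this
    have : y = x := Subtype.ext hyx
    rwa [← this]

end Cfsg.Agent.Lib.Helper65
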