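import Mathlib

set_option autoImplicit false

/-! A generalized dihedral group of order `2p³` in `PSL_n(p)` with trivial centralizer. -/

namespace Cfsg.Agent.Lib.Helper65.GenDih

open Matrix

section mat

variable {F : Type*} [Field F] {m : ℕ} [NeZero m]

/-- cyclic shift -/
def P : Matrix (ZMod m) (ZMod m) F := Matrix.of fun i j => if i = j + 1 then 1 else 0

/-- a matrix unit -/
def E0 : Matrix (ZMod m) (ZMod m) F := Matrix.of fun i j => if i = 0 ∧ j = 0 then 1 else 0

def X (v : Fin 3 → F) : Matrix (ZMod m) (ZMod m) F := v 0 • 1 + v 1 • P + v 2 • E0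

theorem X_add (v w : Fin 3 → F) : (X (v + w) : Matrix (ZMod m) (ZMod m) F) = X v + X w := by
  simp only [X, Pi.add_apply, add_smul]
  abel

theorem X_smul (c : F) (v : Fin 3 → F) : (X (c • v) : Matrix (ZMod m) (ZMod m) F) = c • X v := by
  simp only [X, Pi.smul_apply, smul_eq_mul, smul_add, smul_smul]

theorem scalar_of_commute (A : Matrix (ZMod m) (ZMod m) F) (hP : A * P = P * A)
    (hE : A * E0 = E0 * A) : A = (A 0 0) • (1 : Matrix (ZMod m) (ZMod m) F) := by
  have h1 : ∀ i j, A (i + 1) (j + 1) = A i j := by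
    intro i j
    have := congrFun (congrFun hP (i + 1)) j
    simp only [Matrix.mul_apply, P, Matrix.of_apply, mul_ite, mul_one, mul_zero, ite_mul, one_mul,
      zero_mul, add_left_inj, Finset.sum_ite_eq, Finset.sum_ite_eq', Finset.mem_univ, if_true] at this
    exact this
  have h2 : ∀ i, i ≠ 0 → A i 0 = 0 := by
    intro i hi
    have := congrFun (congrFun hE i) 0
    simp only [Matrix.mul_apply, E0, Matrix.of_apply, mul_ite, mul_one, mul_zero, ite_mul, one_mul,
      zero_mul, and_true, hi, false_and, if_false, Finset.sum_const_zero,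
      Finset.sum_ite_eq', Finset.mem_univ, if_true] at this
    exact this
  have h3 : ∀ (k : ℕ) i j, A (i + k) (j + k) = A i j := by
    intro k
    induction k with
    | zero => intro i j; simp
    | succ k ih =>
      intro i j
      push_cast
      rw [← add_assoc, ← add_assoc, h1, ih]
  have h4 : ∀ i j, A i j = A (i - j) 0 := by
    intro i j
    have := h3 j.val (i - j) 0
    rw [ZMod.natCast_zmod_val] at this
    simpa using this
  ext i j
  rw [h4, Matrix.smul_apply, Matrix.one_apply, smul_eq_mul]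
  by_cases hij : i = j
  · subst hij; simp
  · rw [if_neg hij, mul_zero]
    exact h2 _ (sub_ne_zero.mpr hij)

theorem X_eq_zero (hm : 2 ≤ m) (v : Fin 3 → F) (h : (X v : Matrix (ZMod m) (ZMod m) F) = 0) :
    v = 0 := by
  have : Fact (1 < m) := ⟨by omega⟩
  have h10 : (1 : ZMod m) ≠ 0 := one_ne_zero
  have e1 := congrFun (congrFun h 1) 0
  have e2 := congrFun (congrFun h 1) 1
  have e3 := congrFun (congrFun h 0) 0
  simp [X, P, E0, h10, Matrix.one_apply] at e1 e2 e3
  rw [e2, zero_add] at e3
  funext i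
  fin_cases i
  · exact e2
  · exact e1
  · exact e3

/-- the unipotent matrices -/
def uMat (v : Fin 3 → F) : Matrix (ZMod m ⊕ ZMod m) (ZMod m ⊕ ZMod m) F :=
  fromBlocks 1 (X v) 0 1

/-- the diagonal matrices -/
def tMat (c : F) : Matrix (ZMod m ⊕ ZMod m) (ZMod m ⊕ ZMod m) F :=
  fromBlocks 1 0 0 (c • 1)

theorem uMat_mul (v w : Fin 3 → F) : (uMat v * uMat w : Matrix (ZMod m ⊕ ZMod m) _ F) = uMat (v + w) := by
  simp only [uMat, fromBlocks_multiply, X_add]
  simp [add_comm]

theorem uMat_zero : (uMat 0 : Matrix (ZMod m ⊕ ZMod m) _ F) = 1 := by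
  simp [uMat, X]

theorem tMat_mul (c d : F) : (tMat c * tMat d : Matrix (ZMod m ⊕ ZMod m) _ F) = tMat (c * d) := by
  simp only [tMat, fromBlocks_multiply]
  simp [smul_smul, mul_comm]

theorem tMat_one : (tMat 1 : Matrix (ZMod m ⊕ ZMod m) _ F) = 1 := by
  simp [tMat]

theorem det_uMat (v : Fin 3 → F) : (uMat v : Matrix (ZMod m ⊕ ZMod m) _ F).det = 1 := by
  simp [uMat]

theorem det_tMat (c : F) : (tMat c : Matrix (ZMod m ⊕ ZMod m) _ F).det = c ^ m := by
  simp [tMat, Matrix.det_smul, ZMod.card]

theorem tMat_conj (c d : F) (hcd : c * d = 1) (v : Fin 3 → F) :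
    (tMat c * uMat v * tMat d : Matrix (ZMod m ⊕ ZMod m) _ F) = uMat (d • v) := by
  simp only [tMat, uMat, fromBlocks_multiply, X_smul]
  simp [smul_smul, mul_comm d c, hcd]

theorem rigid (h2 : (2 : F) ≠ 0) (G : Matrix (ZMod m ⊕ ZMod m) (ZMod m ⊕ ZMod m) F) (hG : G.det ≠ 0)
    (hu : ∀ v, G * uMat v = uMat v * G) (r : F) (ht : G * tMat (-1) = r • (tMat (-1) * G)) :
    ∃ a : F, G = a • 1 := by
  obtain ⟨A, B, C, D, rfl⟩ : ∃ A B C D, G = fromBlocks A B C D :=
    ⟨_, _, _, _, (fromBlocks_toBlocks G).symm⟩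
  have key : ∀ v : Fin 3 → F, X v * C = 0 ∧ A * X v = X v * D := by
    intro v
    have := hu v
    simp only [uMat, fromBlocks_multiply, fromBlocks_inj] at this
    obtain ⟨h11, h12, -, -⟩ := this
    simp only [mul_one, mul_zero, add_zero, one_mul] at h11 h12
    refine ⟨by simpa using h11, ?_⟩
    have := h12
    rw [add_comm] at this
    exact add_left_cancel this
  have x1 : (X ![1, 0, 0] : Matrix (ZMod m) (ZMod m) F) = 1 := by simp [X]
  have x2 : (X ![0, 1, 0] : Matrix (ZMod m) (ZMod m) F) = P := by simp [X]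
  have x3 : (X ![0, 0, 1] : Matrix (ZMod m) (ZMod m) F) = E0 := by simp [X]
  have hC : C = 0 := by simpa [x1] using (key ![1, 0, 0]).1
  have hD : A = D := by simpa [x1] using (key ![1, 0, 0]).2
  subst hC
  subst hD
  have hP := (key ![0, 1, 0]).2
  have hE := (key ![0, 0, 1]).2
  rw [x2] at hP
  rw [x3] at hE
  have hA := scalar_of_commute A hP hE
  have hA0 : A 0 0 ≠ 0 := by
    intro h
    rw [h, zero_smul] at hA
    apply hG
    rw [hA, det_fromBlocks_zero₂₁]
    simp
  simp only [tMat, fromBlocks_multiply, fromBlocks_smul, fromBlocks_inj] at ht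
  obtain ⟨h11, h12, -, -⟩ := ht
  simp only [mul_one, mul_zero, add_zero, one_mul, zero_mul, zero_add, mul_smul_comm] at h11 h12
  have hr : r = 1 := by
    have := congrFun (congrFun h11 0) 0
    rw [Matrix.smul_apply, smul_eq_mul] at this
    have h3 : (r - 1) * A 0 0 = 0 := by linear_combination -this
    rcases mul_eq_zero.mp h3 with h | h
    · exact sub_eq_zero.mp h
    · exact absurd h hA0
  rw [hr, one_smul] at h12
  have hB : B = 0 := by
    ext i j
    have := congrFun (congrFun h12 i) j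
    simp only [Matrix.smul_apply, smul_eq_mul, neg_mul, one_mul] at this
    have h3 : 2 * B i j = 0 := by linear_combination -this
    exact (mul_eq_zero.mp h3).resolve_left h2
  refine ⟨A 0 0, ?_⟩
  rw [hB]
  conv_lhs => rw [hA]
  rw [← fromBlocks_one, fromBlocks_smul]
  simp

theorem unip_scalar (G : Matrix (ZMod m ⊕ ZMod m) (ZMod m ⊕ ZMod m) F) (hG : G.det ≠ 0)
    (v : Fin 3 → F) (r : F) (h : G * uMat v = r • (uMat v * G)) : r = 1 := by
  by_contra hr
  obtain ⟨A, B, C, D, rfl⟩ : ∃ A B C D, G = fromBlocks A B C D :=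
    ⟨_, _, _, _, (fromBlocks_toBlocks G).symm⟩
  simp only [uMat, fromBlocks_multiply, fromBlocks_smul, fromBlocks_inj] at h
  obtain ⟨h11, -, h21, h22⟩ := h
  simp only [mul_one, mul_zero, add_zero, one_mul, zero_mul, zero_add] at h11 h21 h22
  have hr' : 1 - r ≠ 0 := fun h => hr (sub_eq_zero.mp h).symm
  have aux : ∀ M : Matrix (ZMod m) (ZMod m) F, M = r • M → M = 0 := by
    intro M hM
    ext i j
    have := congrFun (congrFun hM i) j
    rw [Matrix.smul_apply, smul_eq_mul] at this
    have h3 : (1 - r) * M i j = 0 := by linear_combination this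
    exact (mul_eq_zero.mp h3).resolve_left hr'
  have hC : C = 0 := aux C h21
  subst hC
  simp only [mul_zero, add_zero, zero_mul, zero_add] at h11 h22
  have hA : A = 0 := aux A h11
  apply hG
  rw [hA, det_fromBlocks_zero₂₁]
  simp

end mat

section grp

variable (p : ℕ) [Fact p.Prime] (m : ℕ) [NeZero m]

/-- the elementary abelian group of order `p³` -/
abbrev EE : Type := Multiplicative (Fin 3 → ZMod p)

/-- inversion action -/
def act : ℤˣ →* MulAut (EE p) where
  toFun ε :=
    { toFun := fun v => v ^ (ε : ℤ)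
      invFun := fun v => v ^ (ε : ℤ)
      left_inv := fun v => by
        show (v ^ (ε : ℤ)) ^ (ε : ℤ) = v
        rw [← _root_.zpow_mul, ← Units.val_mul, Int.units_mul_self]; simp
      right_inv := fun v => by
        show (v ^ (ε : ℤ)) ^ (ε : ℤ) = v
        rw [← _root_.zpow_mul, ← Units.val_mul, Int.units_mul_self]; simp
      map_mul' := fun v w => mul_zpow v w _ }
  map_one' := by
    refine MulEquiv.ext fun v => ?_
    show v ^ ((1 : ℤˣ) : ℤ) = v
    simp
  map_mul' a b := by
    refine MulEquiv.ext fun v => ?_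
    show v ^ ((a * b : ℤˣ) : ℤ) = (v ^ (b : ℤ)) ^ (a : ℤ)
    rw [← _root_.zpow_mul, Units.val_mul, mul_comm]

/-- the generalized dihedral group of order `2p³` -/
abbrev HH : Type := EE p ⋊[act p] ℤˣ

theorem card_HH : Nat.card (HH p) = 2 * p ^ 3 := by
  rw [SemidirectProduct.card]
  have h1 : Nat.card (EE p) = p ^ 3 := by
    rw [Nat.card_congr Multiplicative.toAdd, Nat.card_eq_fintype_card]
    simp [ZMod.card]
  have h2 : Nat.card ℤˣ = 2 := by
    rw [Nat.card_eq_fintype_card]; rfl
  rw [h1, h2, mul_comm]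

abbrev SLm : Type := SpecialLinearGroup (ZMod m ⊕ ZMod m) (ZMod p)

abbrev Mm : Type := Matrix (ZMod m ⊕ ZMod m) (ZMod m ⊕ ZMod m) (ZMod p)

def f₁ : EE p →* SLm p m where
  toFun v := ⟨uMat (Multiplicative.toAdd v), det_uMat _⟩
  map_one' := Subtype.ext uMat_zero
  map_mul' v w := Subtype.ext (uMat_mul _ _).symm

variable {m} in
def f₂ (hm : Even m) : ℤˣ →* SLm p m where
  toFun ε := ⟨tMat (((ε : ℤ) : ZMod p)), by
    rw [det_tMat]
    obtain ⟨k, rfl⟩ := hm
    rw [← two_mul, pow_mul, ← Int.cast_pow, ← Units.val_pow_eq_pow_val, Int.units_sq]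
    simp⟩
  map_one' := Subtype.ext (by simp [tMat_one])
  map_mul' a b := Subtype.ext (by
    show tMat _ = tMat _ * tMat _
    rw [tMat_mul]; simp)

variable {m} in
theorem compat (hm : Even m) (ε : ℤˣ) :
    (f₁ p m).comp (act p ε).toMonoidHom = (MulAut.conj (f₂ p hm ε)).toMonoidHom.comp (f₁ p m) := by
  refine MonoidHom.ext fun v => ?_
  apply Subtype.ext
  show uMat _ = ((f₂ p hm ε) * (f₁ p m v) * (f₂ p hm ε)⁻¹ : SLm p m).1
  rw [← map_inv, Int.units_inv_eq_self]
  show uMat _ = tMat _ * uMat _ * tMat _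
  rw [tMat_conj _ _ (by rw [← Int.cast_mul, ← Units.val_mul, Int.units_mul_self]; simp)]
  congr 1
  show Multiplicative.toAdd (v ^ (ε : ℤ)) = _
  rw [toAdd_zpow, Int.cast_smul_eq_zsmul]

variable {m} in
def ψ (hm : Even m) : HH p →* SLm p m := SemidirectProduct.lift (f₁ p m) (f₂ p hm) (compat p hm)

theorem proj_comm {n R : Type*} [Fintype n] [DecidableEq n] [CommRing R]
    (g y : SpecialLinearGroup n R)
    (h : (QuotientGroup.mk (y * g) : ProjectiveSpecialLinearGroup n R) = QuotientGroup.mk (g * y)) :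
    ∃ r : R, (g : Matrix n n R) * (y : Matrix n n R) = r • ((y : Matrix n n R) * (g : Matrix n n R)) := by
  have h1 := QuotientGroup.eq.mp h
  obtain ⟨r, -, hr⟩ := Matrix.SpecialLinearGroup.mem_center_iff.mp h1
  refine ⟨r, ?_⟩
  have h2 : g * y = (y * g) * ((y * g)⁻¹ * (g * y)) := by group
  have h3 := congrArg Subtype.val h2
  change (g : Matrix n n R) * (y : Matrix n n R) = ((y : Matrix n n R) * (g : Matrix n n R)) *
    (((y * g)⁻¹ * (g * y) : SpecialLinearGroup n R) : Matrix n n R) at h3
  rw [h3, ← hr]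
  simp [Matrix.scalar_apply, ← Matrix.smul_one_eq_diagonal]

theorem mem_center_of_smul {n R : Type*} [Fintype n] [DecidableEq n] [CommRing R]
    (g : SpecialLinearGroup n R) (a : R) (h : (g : Matrix n n R) = a • 1) :
    g ∈ Subgroup.center (SpecialLinearGroup n R) := by
  rw [Subgroup.mem_center_iff]
  intro y
  apply Subtype.ext
  change (y : Matrix n n R) * (g : Matrix n n R) = (g : Matrix n n R) * (y : Matrix n n R)
  rw [h]
  simp

variable {m} in
theorem main_block (hp : p ≠ 2) (hm : Even m) (hm2 : 2 ≤ m) :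
    Function.Injective ((QuotientGroup.mk' (Subgroup.center (SLm p m))).comp (ψ p hm)) ∧
    Subgroup.centralizer
      (((QuotientGroup.mk' (Subgroup.center (SLm p m))).comp (ψ p hm)).range :
        Set (SLm p m ⧸ Subgroup.center (SLm p m))) = ⊥ := by
  have h2 : (2 : ZMod p) ≠ 0 := by
    intro h
    have h3 : ((2 : ℕ) : ZMod p) = 0 := by exact_mod_cast h
    rw [ZMod.natCast_eq_zero_iff] at h3
    exact hp ((Nat.prime_dvd_prime_iff_eq Fact.out Nat.prime_two).mp h3)
  have hcoe : ∀ h : HH p, ((ψ p hm h : SLm p m) : Mm p m) =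
      uMat (Multiplicative.toAdd h.left) * tMat (((h.right : ℤ) : ZMod p)) := fun h => rfl
  constructor
  · rw [injective_iff_map_eq_one]
    intro h hh
    have h1 : ψ p hm h ∈ Subgroup.center (SLm p m) := (QuotientGroup.eq_one_iff _).mp hh
    obtain ⟨r, -, hr⟩ := Matrix.SpecialLinearGroup.mem_center_iff.mp h1
    rw [hcoe, Matrix.scalar_apply, ← Matrix.smul_one_eq_diagonal, ← fromBlocks_one,
      fromBlocks_smul] at hr
    simp only [uMat, tMat, fromBlocks_multiply, fromBlocks_inj] at hr
    obtain ⟨h11, h12, -, h22⟩ := hr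
    simp only [mul_one, mul_zero, add_zero, one_mul, zero_mul, zero_add, smul_zero,
      mul_smul_comm] at h11 h12 h22
    have hr1 : r = 1 := by
      have := congrFun (congrFun h11 0) 0
      simpa using this
    have hc : ((h.right : ℤ) : ZMod p) = 1 := by
      have := congrFun (congrFun h22 0) 0
      rw [hr1] at this
      simpa using this.symm
    have hε : h.right = 1 := by
      rcases Int.units_eq_one_or h.right with h' | h'
      · exact h'
      · exfalso
        rw [h'] at hc
        apply h2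
        simp only [Units.val_neg, Units.val_one, Int.cast_neg, Int.cast_one] at hc
        linear_combination -hc
    rw [hc, one_smul] at h12
    have hv := X_eq_zero hm2 _ h12.symm
    ext1
    · exact hv
    · exact hε
  · rw [eq_bot_iff]
    intro x hx
    obtain ⟨g, rfl⟩ := QuotientGroup.mk_surjective x
    rw [Subgroup.mem_centralizer_iff] at hx
    have hx' : ∀ h : HH p, ∃ r : ZMod p, (g : Mm p m) * (ψ p hm h : SLm p m) =
        r • (((ψ p hm h : SLm p m) : Mm p m) * (g : Mm p m)) := by
      intro h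
      apply proj_comm
      exact hx _ ⟨h, rfl⟩
    have hdet : (g : Mm p m).det ≠ 0 := by
      rw [g.det_coe]; exact one_ne_zero
    have hu : ∀ v : Fin 3 → ZMod p, (g : Mm p m) * uMat v = uMat v * (g : Mm p m) := by
      intro v
      obtain ⟨r, hr⟩ := hx' (SemidirectProduct.inl (Multiplicative.ofAdd v))
      have e : ((ψ p hm (SemidirectProduct.inl (Multiplicative.ofAdd v)) : SLm p m) : Mm p m)
          = uMat v := by
        rw [hcoe]
        simp [tMat_one]
      rw [e] at hr
      have := unip_scalar _ hdet v r hr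
      rw [this, one_smul] at hr
      exact hr
    obtain ⟨r, hr⟩ := hx' (SemidirectProduct.inr (-1))
    have e : ((ψ p hm (SemidirectProduct.inr (-1)) : SLm p m) : Mm p m)
        = tMat (-1) := by
      rw [hcoe]
      simp [uMat_zero]
    rw [e] at hr
    obtain ⟨a, ha⟩ := rigid h2 _ hdet hu r hr
    rw [Subgroup.mem_bot]
    exact (QuotientGroup.eq_one_iff _).mpr (mem_center_of_smul g a ha)

end grp

section reindex

variable {ι κ R : Type*} [Fintype ι] [DecidableEq ι] [Fintype κ] [DecidableEq κ] [CommRing R]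

/-- reindexing `SL` -/
def slReindex (e : ι ≃ κ) : SpecialLinearGroup ι R ≃* SpecialLinearGroup κ R where
  toFun g := ⟨Matrix.reindex e e g.1, by rw [Matrix.det_reindex_self]; exact g.2⟩
  invFun g := ⟨Matrix.reindex e.symm e.symm g.1, by rw [Matrix.det_reindex_self]; exact g.2⟩
  left_inv g := Subtype.ext (by simp)
  right_inv g := Subtype.ext (by simp)
  map_mul' a b := Subtype.ext (by
    show Matrix.reindex e e (a.1 * b.1) = Matrix.reindex e e a.1 * Matrix.reindex e e b.1
    simp [Matrix.reindex_apply, Matrix.submatrix_mul_equiv])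

theorem map_center_equiv {G H : Type*} [Group G] [Group H] (e : G ≃* H) :
    (Subgroup.center G).map e.toMonoidHom = Subgroup.center H := by
  ext x
  rw [Subgroup.mem_map_equiv, Subgroup.mem_center_iff, Subgroup.mem_center_iff]
  constructor
  · intro h y
    have := congrArg e (h (e.symm y))
    simpa using this
  · intro h y
    have := congrArg e.symm (h (e y))
    simpa using this

/-- reindexing `PSL` -/
noncomputable def pslReindex (e : ι ≃ κ) :
    ProjectiveSpecialLinearGroup ι R ≃* ProjectiveSpecialLinearGroup κ R :=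
  QuotientGroup.congr _ _ (slReindex e) (map_center_equiv _)

theorem transport {H Γ Γ' : Type*} [Group H] [Group Γ] [Group Γ'] (Φ : Γ ≃* Γ') (φ : H →* Γ)
    (hinj : Function.Injective φ) (hc : Subgroup.centralizer (φ.range : Set Γ) = ⊥) :
    Function.Injective (Φ.toMonoidHom.comp φ) ∧
      Subgroup.centralizer ((Φ.toMonoidHom.comp φ).range : Set Γ') = ⊥ := by
  refine ⟨Φ.injective.comp hinj, ?_⟩
  rw [eq_bot_iff]
  intro x hx
  rw [Subgroup.mem_centralizer_iff] at hx
  have : Φ.symm x ∈ Subgroup.centralizer (φ.range : Set Γ) := by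
    rw [Subgroup.mem_centralizer_iff]
    rintro _ ⟨h, rfl⟩
    have := congrArg Φ.symm (hx (Φ (φ h)) ⟨h, rfl⟩)
    simpa using this
  rw [hc, Subgroup.mem_bot] at this
  rw [Subgroup.mem_bot]
  simpa using congrArg Φ this

end reindex

theorem main (p : ℕ) [Fact p.Prime] (hp : p ≠ 2) (N : ℕ) :
    ∃ n, N ≤ n ∧ ∃ φ : HH p →* ProjectiveSpecialLinearGroup (Fin n) (ZMod p),
      Function.Injective φ ∧
        Subgroup.centralizer (φ.range : Set (ProjectiveSpecialLinearGroup (Fin n) (ZMod p))) = ⊥ := by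
  have : NeZero (2 * (N + 1)) := ⟨by omega⟩
  obtain ⟨h1, h2⟩ := main_block p (m := 2 * (N + 1)) hp ⟨N + 1, by ring⟩ (by omega)
  have hcard : Fintype.card (ZMod (2 * (N + 1)) ⊕ ZMod (2 * (N + 1))) = 4 * (N + 1) := by
    rw [Fintype.card_sum, ZMod.card]; ring
  refine ⟨4 * (N + 1), by omega, _,
    transport (pslReindex (Fintype.equivFinOfCardEq hcard)) _ h1 h2⟩

end Cfsg.Agent.Lib.Helper65.GenDih
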