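import Mathlib
import Cfsg.Agent.Lib.Helper71.Conj

set_option autoImplicit false

/-! Primitive groups with a unique class of derangements: the non-abelian socle case. -/

namespace Cfsg.Agent.Lib.Helper65.DerClass

open MulAction

section pi

variable {T : Type*} [Group T] {m : ℕ}

theorem commute_ms (i0 : Fin m) (t : T) (f : Fin m → T) (hf : Commute t (f i0)) :
    Commute (Pi.mulSingle i0 t : Fin m → T) f := by
  funext i
  by_cases hi : i = i0
  · subst hi
    simpa using hf.eq
  · simp [Pi.mulSingle_eq_of_ne hi]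

theorem conj_ms (i0 : Fin m) (t : T) (f : Fin m → T) :
    f⁻¹ * Pi.mulSingle i0 t * f = (Pi.mulSingle i0 ((f i0)⁻¹ * t * f i0) : Fin m → T) := by
  funext i
  by_cases hi : i = i0
  · subst hi
    simp
  · simp [Pi.mulSingle_eq_of_ne hi]

theorem decomp (i0 : Fin m) (f : Fin m → T) :
    f = Pi.mulSingle i0 (f i0) * Function.update f i0 1 := by
  funext i
  by_cases hi : i = i0
  · subst hi
    simp
  · simp [Pi.mulSingle_eq_of_ne hi, Function.update_of_ne hi]

end pi

theorem false_of_power {G : Type*} [Group G] [Finite G] {Ω : Type*} [MulAction G Ω] [FaithfulSMul G Ω]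
    [Nonempty Ω]
    {T : Type*} [Group T] [Finite T] [IsSimpleGroup T] (hT : ¬ ∀ a b : T, a * b = b * a)
    {m : ℕ} (hm : 2 ≤ m) (ι : (Fin m → T) →* G) (hι : Function.Injective ι)
    (hn : ι.range.Normal) (htr : ∀ a b : Ω, ∃ f, ι f • a = b)
    (hU : ∀ g g' : G, (∀ ω : Ω, g • ω ≠ ω) → (∀ ω : Ω, g' • ω ≠ ω) → IsConj g g') : False := by
  classical
  let i0 : Fin m := ⟨0, by omega⟩
  let j0 : Fin m := ⟨1, by omega⟩
  have hij : j0 ≠ i0 := by
    intro h
    have := congrArg Fin.val h
    simp [i0, j0] at this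
  have hcenter : Subgroup.center T = ⊥ := by
    rcases IsSimpleGroup.eq_bot_or_eq_top_of_normal (Subgroup.center T) inferInstance with h | h
    · exact h
    · exfalso
      apply hT
      intro a b
      have : b ∈ Subgroup.center T := by rw [h]; trivial
      exact (Subgroup.mem_center_iff.mp this a)
  let τ : T → G := fun t => ι (Pi.mulSingle i0 t)
  have hτmul : ∀ a b, τ (a * b) = τ a * τ b := by
    intro a b
    show ι _ = ι _ * ι _
    rw [← map_mul, Pi.mulSingle_mul]
  have hτone : τ 1 = 1 := by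
    show ι _ = 1
    rw [Pi.mulSingle_one, map_one]
  have hτinv : ∀ a, τ a⁻¹ = (τ a)⁻¹ := by
    intro a
    show ι _ = (ι _)⁻¹
    rw [← map_inv, Pi.mulSingle_inv]
  have hτinj : ∀ t, τ t = 1 → t = 1 := by
    intro t ht
    have h1 : (Pi.mulSingle i0 t : Fin m → T) = 1 := hι (ht.trans (map_one ι).symm)
    have := congrFun h1 i0
    simpa using this
  have hcomm : ∀ (t : T) (f : Fin m → T), f i0 = 1 → Commute (τ t) (ι f) := by
    intro t f hf
    exact (commute_ms i0 t f (by rw [hf]; exact Commute.one_right t)).map ι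
  -- Claim B
  have claimB : ∀ t0 : T, (∀ ω : Ω, τ t0 • ω ≠ ω) → ∀ f' : Fin m → T, f' i0 = 1 → f' ≠ 1 →
      ∃ ω : Ω, (τ t0 * ι f') • ω = ω := by
    intro t0 hder f' hf' hne
    by_contra hcon
    push Not at hcon
    obtain ⟨g, hg⟩ := isConj_iff.mp (hU _ _ hder hcon)
    set x := τ t0 with hx
    set r := ι f' with hr
    have hle : ι.range ⊓ Subgroup.centralizer {x * r} ≤ ι.range ⊓ Subgroup.centralizer {x} := by
      rintro n ⟨⟨f, rfl⟩, hn2⟩
      refine ⟨⟨f, rfl⟩, ?_⟩
      have hn2' : ι f ∈ Subgroup.centralizer {x * r} := hn2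
      show ι f ∈ Subgroup.centralizer {x}
      rw [Subgroup.mem_centralizer_singleton_iff] at hn2' ⊢
      have h1 : f * (Pi.mulSingle i0 t0 * f') = (Pi.mulSingle i0 t0 * f') * f := by
        apply hι
        simp only [map_mul]
        exact hn2'
      have h2 := congrFun h1 i0
      simp only [Pi.mul_apply, Pi.mulSingle_eq_same, hf', mul_one] at h2
      exact ((commute_ms i0 t0 f h2.symm).map ι).symm.eq
    have hcard : Nat.card (ι.range ⊓ Subgroup.centralizer {x} : Subgroup G) ≤
        Nat.card (ι.range ⊓ Subgroup.centralizer {x * r} : Subgroup G) := by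
      rw [← Subgroup.card_map_of_injective (f := (MulAut.conj g).toMonoidHom)
        (K := (ι.range ⊓ Subgroup.centralizer {x} : Subgroup G)) (MulAut.conj g).injective]
      apply Subgroup.card_le_of_le
      rintro _ ⟨n, ⟨hn1, hn2⟩, rfl⟩
      have hn2' : n ∈ Subgroup.centralizer {x} := hn2
      refine ⟨hn.conj_mem n hn1 g, ?_⟩
      show g * n * g⁻¹ ∈ Subgroup.centralizer {x * r}
      rw [Subgroup.mem_centralizer_singleton_iff] at hn2' ⊢
      rw [← hg]
      calc g * n * g⁻¹ * (g * x * g⁻¹) = g * (n * x) * g⁻¹ := by group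
        _ = g * (x * n) * g⁻¹ := by rw [hn2']
        _ = _ := by group
    have heq := Subgroup.eq_of_le_of_card_ge hle hcard
    apply hne
    funext j
    by_cases hj : j = i0
    · rw [hj, hf']; rfl
    · have hc : f' j ∈ Subgroup.center T := by
        rw [Subgroup.mem_center_iff]
        intro s
        have h1 : ι (Pi.mulSingle j s) ∈ ι.range ⊓ Subgroup.centralizer {x} := by
          refine ⟨⟨_, rfl⟩, ?_⟩
          show ι (Pi.mulSingle j s) ∈ Subgroup.centralizer {x}
          rw [Subgroup.mem_centralizer_singleton_iff]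
          exact (hcomm t0 (Pi.mulSingle j s) (by rw [Pi.mulSingle_eq_of_ne (Ne.symm hj)])).symm.eq
        rw [← heq] at h1
        have h2 : ι (Pi.mulSingle j s) ∈ Subgroup.centralizer {x * r} := h1.2
        rw [Subgroup.mem_centralizer_singleton_iff] at h2
        have h3 : Pi.mulSingle j s * (Pi.mulSingle i0 t0 * f') =
            (Pi.mulSingle i0 t0 * f') * Pi.mulSingle j s := by
          apply hι
          simp only [map_mul]
          exact h2
        have h4 := congrFun h3 j
        simpa [Pi.mulSingle_eq_of_ne hj] using h4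
      rw [hcenter, Subgroup.mem_bot] at hc
      exact hc
  obtain ⟨α⟩ := (inferInstance : Nonempty Ω)
  obtain ⟨s0, hs0⟩ := exists_ne (1 : T)
  let f0 : Fin m → T := Pi.mulSingle j0 s0
  have hf0 : f0 i0 = 1 := Pi.mulSingle_eq_of_ne (Ne.symm hij) s0
  have hf0ne : f0 ≠ 1 := by
    intro h
    have := congrFun h j0
    simp [f0] at this
    exact hs0 this
  let Y : Subgroup T :=
    { carrier := {t | ∃ f' : Fin m → T, f' i0 = 1 ∧ (τ t * ι f') • α = α}
      mul_mem' := by
        rintro t u ⟨f', hf', h1⟩ ⟨h', hh', h2⟩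
        refine ⟨f' * h', by simp [hf', hh'], ?_⟩
        have e : τ (t * u) * ι (f' * h') = (τ t * ι f') * (τ u * ι h') := by
          rw [hτmul, map_mul]
          calc τ t * τ u * (ι f' * ι h') = τ t * (τ u * ι f') * ι h' := by group
            _ = τ t * (ι f' * τ u) * ι h' := by rw [(hcomm u f' hf').eq]
            _ = _ := by group
        rw [e, mul_smul, h2, h1]
      one_mem' := ⟨1, rfl, by rw [hτone, map_one, one_mul, one_smul]⟩
      inv_mem' := by
        rintro t ⟨f', hf', h1⟩
        refine ⟨f'⁻¹, by simp [hf'], ?_⟩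
        have e : τ t⁻¹ * ι f'⁻¹ = (τ t * ι f')⁻¹ := by
          rw [hτinv, map_inv, mul_inv_rev]
          exact ((hcomm t f' hf').inv_inv).eq
        rw [e, inv_smul_eq_iff, h1] }
  have hY : Y = ⊤ := by
    apply Cfsg.Agent.Lib.Helper71.eq_top_of_forall_conj_mem
    intro t
    obtain ⟨r', hr'0, ω, hω⟩ : ∃ r' : Fin m → T, r' i0 = 1 ∧ ∃ ω : Ω, (τ t * ι r') • ω = ω := by
      by_cases h : ∃ ω : Ω, τ t • ω = ω
      · obtain ⟨ω, hω⟩ := h
        exact ⟨1, rfl, ω, by rw [map_one, mul_one, hω]⟩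
      · push Not at h
        exact ⟨f0, hf0, claimB t h f0 hf0 hf0ne⟩
    obtain ⟨f, hf⟩ := htr α ω
    refine ⟨f i0, f⁻¹ * r' * f, by simp [hr'0], ?_⟩
    have e : τ ((f i0)⁻¹ * t * f i0) * ι (f⁻¹ * r' * f) = (ι f)⁻¹ * (τ t * ι r') * ι f := by
      show ι _ * ι _ = _
      rw [← conj_ms]
      simp only [map_mul, map_inv]
      show _ = (ι f)⁻¹ * (ι (Pi.mulSingle i0 t) * ι r') * ι f
      group
    rw [e, mul_smul, mul_smul, hf, hω, ← hf, inv_smul_smul]
  have claimC : ∀ ω : Ω, ∃ f' : Fin m → T, f' i0 = 1 ∧ ι f' • α = ω := by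
    intro ω
    obtain ⟨f, hf⟩ := htr α ω
    have ht : f i0 ∈ Y := by rw [hY]; trivial
    obtain ⟨h', hh', h1⟩ := ht
    have hB : (Function.update f i0 1 : Fin m → T) i0 = 1 := Function.update_self _ _ _
    refine ⟨Function.update f i0 1 * h'⁻¹, by simp [hh'], ?_⟩
    have h2 : τ (f i0) • α = (ι h')⁻¹ • α := by
      rw [(hcomm (f i0) h' hh').eq, mul_smul] at h1
      rw [eq_inv_smul_iff, h1]
    have h3 : ι f = ι (Function.update f i0 1) * τ (f i0) := by
      conv_lhs => rw [decomp i0 f, map_mul]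
      exact (hcomm (f i0) _ hB).eq
    rw [← hf, h3, mul_smul, h2, map_mul, map_inv, mul_smul]
  have claimD : ∀ (t : T) (ω : Ω), τ t • ω = ω → t = 1 := by
    intro t ω hω
    apply hτinj
    apply FaithfulSMul.eq_of_smul_eq_smul (α := Ω)
    intro ω'
    obtain ⟨a', ha', h1⟩ := claimC ω
    obtain ⟨b', hb', h2⟩ := claimC ω'
    have h3 : ω' = ι (b' * a'⁻¹) • ω := by
      rw [← h1, ← h2, map_mul, map_inv, mul_smul, inv_smul_smul]
    rw [one_smul, h3, ← mul_smul, (hcomm t (b' * a'⁻¹) (by simp [ha', hb'])).eq, mul_smul, hω]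
  let τh : T →* G := ι.comp (MonoidHom.mulSingle (fun _ => T) i0)
  have hτh : Function.Injective τh := by
    rw [injective_iff_map_eq_one]
    exact hτinj
  have hord : ∀ t u : T, t ≠ 1 → u ≠ 1 → orderOf t = orderOf u := by
    intro t u ht hu
    have h1 : IsConj (τ t) (τ u) :=
      hU _ _ (fun ω h => ht (claimD t ω h)) (fun ω h => hu (claimD u ω h))
    obtain ⟨g, hg⟩ := isConj_iff.mp h1
    rw [← orderOf_injective τh hτh t, ← orderOf_injective τh hτh u]
    show orderOf (τ t) = orderOf (τ u)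
    rw [← hg]
    exact (orderOf_injective (MulAut.conj g).toMonoidHom (MulAut.conj g).injective (τ t)).symm
  have hcard : Nat.card T ≠ 1 := by
    intro h
    rw [Nat.card_eq_one_iff_unique] at h
    exact hs0 (h.1.elim _ _)
  obtain ⟨p, hp, hdvd⟩ := Nat.exists_prime_and_dvd hcard
  have : Fact p.Prime := ⟨hp⟩
  obtain ⟨u, hu⟩ := exists_prime_orderOf_dvd_card' p hdvd
  have hu1 : u ≠ 1 := by
    rintro rfl
    rw [orderOf_one] at hu
    exact hp.one_lt.ne hu
  have hP : IsPGroup p T := by
    intro t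
    refine ⟨1, ?_⟩
    rw [pow_one]
    by_cases ht : t = 1
    · rw [ht, one_pow]
    · rw [← hu, ← hord t u ht hu1]
      exact pow_orderOf_eq_one t
  have := hP.center_nontrivial
  rw [hcenter] at this
  exact not_nontrivial _ this

end Cfsg.Agent.Lib.Helper65.DerClass
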