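import Mathlib
import Cfsg.Agent.Lib.Helper65.DerClass
import Cfsg.Agent.Lib.Helper65.CharSimple
import Cfsg.Agent.Lib.Helper12.MinNormal

set_option autoImplicit false

namespace Cfsg.Agent.Lib.Helper65.DerClass

open MulAction Cfsg.Agent.Lib.Helper12

theorem forward {G : Type*} [Group G] [Finite G] {Ω : Type*} [Fintype Ω] [MulAction G Ω]
    [FaithfulSMul G Ω] (hΩ : 2 ≤ Fintype.card Ω) (hprim : IsPreprimitive G Ω)
    (hnas : ¬ ∃ T : Subgroup G, T.Normal ∧ IsSimpleGroup T ∧ ¬ IsMulCommutative T ∧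
      Subgroup.centralizer (T : Set G) = ⊥)
    (d0 : G) (hd0 : ∀ ω : Ω, d0 • ω ≠ ω)
    (hU : ∀ g g' : G, (∀ ω : Ω, g • ω ≠ ω) → (∀ ω : Ω, g' • ω ≠ ω) → IsConj g g') :
    (∀ a b c d : Ω, a ≠ b → c ≠ d → ∃ g : G, g • a = c ∧ g • b = d) ∧
      ∀ g : G, g ≠ 1 → ∀ a b : Ω, a ≠ b → g • a = a → g • b ≠ b := by
  classical
  have hΩnt : Nontrivial Ω := Fintype.one_lt_card_iff_nontrivial.mp (by omega)
  obtain ⟨α⟩ := (inferInstance : Nonempty Ω)
  have hd01 : d0 ≠ 1 := by
    rintro rfl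
    exact hd0 α (one_smul _ _)
  have hGnt : Nontrivial G := ⟨⟨d0, 1, hd01⟩⟩
  have hM : ∀ M : Subgroup G, M.Normal → M ≠ ⊥ → ∀ a b : Ω, ∃ m ∈ M, m • a = b := by
    intro M hMn hMne a b
    have hfix : fixedPoints M Ω ≠ Set.univ := by
      intro hcon
      apply hMne
      rw [eq_bot_iff]
      intro m hm
      rw [Subgroup.mem_bot]
      apply FaithfulSMul.eq_of_smul_eq_smul (α := Ω)
      intro ω
      have : ω ∈ fixedPoints M Ω := by rw [hcon]; trivial
      rw [one_smul]
      exact this ⟨m, hm⟩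
    have hpt : IsPretransitive M Ω := IsQuasiPreprimitive.isPretransitive_of_normal hfix
    obtain ⟨m, hm⟩ := hpt.exists_smul_eq a b
    exact ⟨m.1, m.2, hm⟩
  have hJ : ∀ M : Subgroup G, M.Normal → M ≠ ⊥ → ∃ m ∈ M, ∀ ω : Ω, m • ω ≠ ω := by
    intro M hMn hMne
    by_contra hcon
    push Not at hcon
    have h1 : stabilizer M α = ⊤ := by
      apply Cfsg.Agent.Lib.Helper71.eq_top_of_forall_conj_mem
      intro m
      obtain ⟨ω, hω⟩ := hcon m.1 m.2
      obtain ⟨a, ha, haω⟩ := hM M hMn hMne α ω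
      refine ⟨⟨a, ha⟩, ?_⟩
      rw [mem_stabilizer_iff]
      show (a⁻¹ * m.1 * a) • α = α
      rw [mul_smul, mul_smul, haω, hω, ← haω, inv_smul_smul]
    obtain ⟨β, hβ⟩ := exists_ne α
    obtain ⟨m, hm, hmβ⟩ := hM M hMn hMne α β
    have h2 : (⟨m, hm⟩ : M) ∈ stabilizer M α := by rw [h1]; trivial
    rw [mem_stabilizer_iff] at h2
    exact hβ (hmβ.symm.trans h2)
  have hD : ∀ M : Subgroup G, M.Normal → M ≠ ⊥ → ∀ g : G, (∀ ω : Ω, g • ω ≠ ω) → g ∈ M := by
    intro M hMn hMne g hg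
    obtain ⟨m, hm, hmd⟩ := hJ M hMn hMne
    obtain ⟨k, hk⟩ := isConj_iff.mp (hU m g hmd hg)
    rw [← hk]
    exact hMn.conj_mem m hm k
  obtain ⟨N, hNmin⟩ := exists_minNormal (G := G)
  have hNn : N.Normal := hNmin.1
  have hNne : N ≠ ⊥ := hNmin.2.1
  have hNtr := hM N hNn hNne
  by_cases hNc : ∀ a ∈ N, ∀ b ∈ N, a * b = b * a
  · -- abelian case
    have hreg : ∀ n ∈ N, ∀ ω : Ω, n • ω = ω → n = 1 := by
      intro n hn ω hω
      apply FaithfulSMul.eq_of_smul_eq_smul (α := Ω)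
      intro ω'
      obtain ⟨k, hk, hkω⟩ := hNtr ω ω'
      rw [one_smul, ← hkω, ← mul_smul, hNc n hn k hk, mul_smul, hω]
    have hreg2 : ∀ n ∈ N, ∀ n' ∈ N, ∀ ω : Ω, n • ω = n' • ω → n = n' := by
      intro n hn n' hn' ω h
      have := hreg (n'⁻¹ * n) (N.mul_mem (N.inv_mem hn') hn) ω (by rw [mul_smul, h, inv_smul_smul])
      exact (inv_mul_eq_one.mp this).symm
    have hder : ∀ n ∈ N, n ≠ 1 → ∀ ω : Ω, n • ω ≠ ω := fun n hn hn1 ω h => hn1 (hreg n hn ω h)
    constructor
    · intro a b c d hab hcd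
      obtain ⟨n1, hn1, h1⟩ := hNtr a b
      obtain ⟨n2, hn2, h2⟩ := hNtr c d
      have hn11 : n1 ≠ 1 := by
        rintro rfl
        exact hab (by rw [← h1, one_smul])
      have hn21 : n2 ≠ 1 := by
        rintro rfl
        exact hcd (by rw [← h2, one_smul])
      obtain ⟨k, hk⟩ := isConj_iff.mp (hU n1 n2 (hder n1 hn1 hn11) (hder n2 hn2 hn21))
      obtain ⟨m, hm, hmc⟩ := hNtr (k • a) c
      refine ⟨m * k, by rw [mul_smul, hmc], ?_⟩
      have h3 : k • b = n2 • (k • a) := by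
        rw [← hk, ← h1, mul_smul, mul_smul, inv_smul_smul]
      rw [mul_smul, h3, ← mul_smul, hNc m hm n2 hn2, mul_smul, hmc, h2]
    · intro g hg1 a b hab hga hgb
      obtain ⟨n, hn, hnab⟩ := hNtr a b
      have hn1 : n ≠ 1 := by
        rintro rfl
        exact hab (by rw [← hnab, one_smul])
      have hga' : g⁻¹ • a = a := by rw [inv_smul_eq_iff, hga]
      have hgn : g * n * g⁻¹ = n := by
        apply hreg2 _ (hNn.conj_mem n hn g) _ hn a
        rw [mul_smul, mul_smul, hga', hnab, hgb]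
      -- the commutator map
      let θ : N → N := fun m => ⟨m.1 * (g * m.1 * g⁻¹)⁻¹, N.mul_mem m.2 (N.inv_mem (hNn.conj_mem m.1 m.2 g))⟩
      have hθ : ¬ Function.Injective θ := by
        intro hinj
        have : θ ⟨n, hn⟩ = θ 1 := by
          apply Subtype.ext
          show n * (g * n * g⁻¹)⁻¹ = 1 * (g * 1 * g⁻¹)⁻¹
          rw [hgn]
          simp
        exact hn1 (congrArg Subtype.val (hinj this))
      have hθ' : ¬ Function.Surjective θ := fun h => hθ (Finite.injective_iff_surjective.mpr h)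
      rw [Function.Surjective] at hθ'
      push Not at hθ'
      obtain ⟨⟨n0, hn0⟩, hn0θ⟩ := hθ'
      have hy : ∀ ω : Ω, (n0 * g) • ω ≠ ω := by
        intro ω hω
        obtain ⟨m, hm, hmω⟩ := hNtr a ω
        apply hn0θ ⟨m, hm⟩
        apply Subtype.ext
        show m * (g * m * g⁻¹)⁻¹ = n0
        have h1 : n0 * (g * m * g⁻¹) = m := by
          apply hreg2 _ (N.mul_mem hn0 (hNn.conj_mem m hm g)) _ hm a
          rw [mul_smul, mul_smul, mul_smul, hga', hmω, ← mul_smul, hω]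
        exact (eq_mul_inv_of_mul_eq h1).symm
      have h2 := hD N hNn hNne _ hy
      have h3 : g ∈ N := by
        have : g = n0⁻¹ * (n0 * g) := by group
        rw [this]
        exact N.mul_mem (N.inv_mem hn0) h2
      exact hg1 (hreg g h3 a hga)
  · exfalso
    have hC : Subgroup.centralizer (N : Set G) = ⊥ := by
      by_contra hCne
      have h1 := hD _ inferInstance hCne d0 hd0
      have h2 := hD N hNn hNne d0 hd0
      rcases hNmin.2.2 (N ⊓ Subgroup.centralizer (N : Set G)) inferInstance inf_le_left with h | h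
      · have : d0 ∈ N ⊓ Subgroup.centralizer (N : Set G) := ⟨h2, h1⟩
        rw [h, Subgroup.mem_bot] at this
        exact hd01 this
      · apply hNc
        intro a ha b hb
        have : b ∈ N ⊓ Subgroup.centralizer (N : Set G) := by rw [h]; exact hb
        have h3 : b ∈ Subgroup.centralizer (N : Set G) := this.2
        exact Subgroup.mem_centralizer_iff.mp h3 a ha
    obtain ⟨T, m, hTs, hm, ⟨e⟩⟩ := minNormal_power N hNne hNmin.2.2
    have hTnc : ¬ ∀ a b : T, a * b = b * a := by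
      intro hc
      apply hNc
      intro a ha b hb
      have h1 : e ⟨a, ha⟩ * e ⟨b, hb⟩ = e ⟨b, hb⟩ * e ⟨a, ha⟩ := by
        funext i
        exact hc _ _
      rw [← map_mul, ← map_mul] at h1
      exact congrArg Subtype.val (e.injective h1)
    by_cases hm1 : m = 1
    · subst hm1
      apply hnas
      refine ⟨N, hNn, ?_, ?_, hC⟩
      · have hNnt : Nontrivial N := (Subgroup.nontrivial_iff_ne_bot N).mpr hNne
        let f : N ≃* T := e.trans (MulEquiv.funUnique (Fin 1) T)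
        exact f.isSimpleGroup
      · intro hc
        apply hNc
        intro a ha b hb
        exact congrArg Subtype.val (hc.is_comm.comm ⟨a, ha⟩ ⟨b, hb⟩)
    · have hr : (N.subtype.comp e.symm.toMonoidHom).range = N := by
        rw [MonoidHom.range_comp, MonoidHom.range_eq_top.mpr e.symm.surjective,
          ← MonoidHom.range_eq_map, Subgroup.range_subtype]
      apply false_of_power (Ω := Ω) hTnc (by omega : 2 ≤ m) (N.subtype.comp e.symm.toMonoidHom)
        (N.subtype_injective.comp e.symm.injective) (by rw [hr]; exact hNn) _ hU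
      intro a b
      obtain ⟨n, hn, hnab⟩ := hNtr a b
      refine ⟨e ⟨n, hn⟩, ?_⟩
      show ((e.symm (e ⟨n, hn⟩) : N) : G) • a = b
      rw [e.symm_apply_apply]
      exact hnab

end Cfsg.Agent.Lib.Helper65.DerClass
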