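import Cfsg.Agent.S0256
import Cfsg.Agent.Lib.Helper62.GLRep
import Cfsg.Agent.Lib.Helper92.TransvSL3

set_option autoImplicit false

namespace Cfsg.Agent.Lib.Helper65

open Cfsg

theorem zmod2_pow4 : ∀ r : ZMod 2, r ^ 4 = 1 → r = 1 := by decide

theorem mzmod2_sq : ∀ z : Multiplicative (ZMod 2), z ^ 2 = 1 := by decide

/-- `GL_4(2) ≅ A_8`. -/
theorem nonempty_GL42_equiv_alt8 :
    Nonempty (Matrix.GeneralLinearGroup (Fin 4) (ZMod 2) ≃* alternatingGroup (Fin 8)) := by
  obtain ⟨e1⟩ := Cfsg.Agent.Lib.Helper92.TSL.nonempty_SLs_equiv_GL 4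
  obtain ⟨e2⟩ := Cfsg.Agent.S0256.result (F := ZMod 2) (by simp)
  have hc : Subgroup.center (Matrix.SpecialLinearGroup (Fin 4) (ZMod 2)) = ⊥ := by
    rw [eq_bot_iff]
    intro A hA
    rw [Matrix.SpecialLinearGroup.mem_center_iff] at hA
    obtain ⟨r, hr, hA⟩ := hA
    have hr1 : r = 1 := zmod2_pow4 r (by simpa using hr)
    rw [Subgroup.mem_bot]
    apply Subtype.ext
    rw [← hA, hr1]
    simp
  have e3 : Matrix.ProjectiveSpecialLinearGroup (Fin 4) (ZMod 2) ≃*
      Matrix.SpecialLinearGroup (Fin 4) (ZMod 2) :=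
    (QuotientGroup.quotientMulEquivOfEq hc).trans QuotientGroup.quotientBot
  exact ⟨e1.symm.trans (e3.symm.trans e2)⟩

/-- an action on an elementary abelian 2-group of order at most 16 gives a hom to `A_8`
with the same kernel -/
theorem exists_hom_alt8_of_mulAut {H : Type*} [Group H] {V : Type*} [CommGroup V] [Finite V]
    (hexp : ∀ x : V, x ^ 2 = 1) (hcard : Nat.card V ≤ 2 ^ 4) (ψ : H →* MulAut V) :
    ∃ φ : H →* alternatingGroup (Fin 8), ∀ h, φ h = 1 ↔ ψ h = 1 := by
  have : Fact (Nat.Prime 2) := ⟨Nat.prime_two⟩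
  have hp : IsPGroup 2 V := fun x => ⟨1, by rw [pow_one]; exact hexp x⟩
  obtain ⟨e, he⟩ := hp.exists_card_eq
  have he4 : e ≤ 4 := by
    rw [he] at hcard
    exact (Nat.pow_le_pow_iff_right (by norm_num)).1 hcard
  let W := V × (Fin (4 - e) → Multiplicative (ZMod 2))
  have hWexp : ∀ x : W, x ^ 2 = 1 := by
    rintro ⟨v, f⟩
    ext1
    · exact hexp v
    · funext i
      show (f i) ^ 2 = 1
      exact mzmod2_sq _
  have hWcard : Nat.card W = 2 ^ 4 := by
    rw [Nat.card_prod, he, Nat.card_pi]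
    have h2 : Nat.card (Multiplicative (ZMod 2)) = 2 := Nat.card_zmod 2
    simp only [Finset.prod_const, Finset.card_univ, Fintype.card_fin]
    rw [h2, ← pow_add]
    congr 1
    omega
  let ψ' : H →* MulAut W :=
    { toFun := fun h => MulEquiv.prodCongr (ψ h) (MulEquiv.refl _)
      map_one' := by
        rw [map_one]; rfl
      map_mul' := by
        intro a b
        rw [map_mul]; rfl }
  obtain ⟨φ, hφ⟩ := Cfsg.Agent.Lib.Helper62.exists_GL_of_mulAut (p := 2) (e := 4) hWexp hWcard ψ'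
  obtain ⟨E⟩ := nonempty_GL42_equiv_alt8
  refine ⟨E.toMonoidHom.comp φ, fun h => ?_⟩
  rw [MonoidHom.comp_apply]
  show E (φ h) = 1 ↔ _
  rw [EmbeddingLike.map_eq_one_iff, hφ]
  constructor
  · intro h1
    ext v
    have := congrArg Prod.fst (DFunLike.congr_fun h1 (v, 1))
    exact this
  · intro h1
    ext x
    · show ψ h x.1 = x.1
      rw [h1]; rfl
    · rfl

end Cfsg.Agent.Lib.Helper65
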