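import Mathlib

set_option autoImplicit false

namespace Cfsg.Agent.Lib.Helper65

/-- automorphisms of a commutative group as additive endomorphisms -/
def autToEnd (V : Type*) [CommGroup V] : MulAut V →* AddMonoid.End (Additive V) where
  toFun φ := MonoidHom.toAdditive φ.toMonoidHom
  map_one' := rfl
  map_mul' _ _ := rfl

theorem autToEnd_apply {V : Type*} [CommGroup V] (φ : MulAut V) (v : V) :
    autToEnd V φ (Additive.ofMul v) = Additive.ofMul (φ v) := rfl

theorem autToEnd_injective (V : Type*) [CommGroup V] : Function.Injective (autToEnd V) := by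
  intro φ χ h
  ext v
  have := congrArg (fun e : AddMonoid.End (Additive V) => e (Additive.ofMul v)) h
  exact this

/-- Schur: an abelian group acting irreducibly on an abelian group acts as a cyclic group. -/
theorem isCyclic_range_of_irreducible {V A : Type*} [CommGroup V] [Group A] [Finite A]
    (hA : ∀ a b : A, a * b = b * a) (ψ : A →* MulAut V) [Nontrivial V]
    (hirr : ∀ W : Subgroup V, (∀ a, ∀ w ∈ W, ψ a w ∈ W) → W = ⊥ ∨ W = ⊤) : IsCyclic ψ.range := by
  classical
  set f : A →* AddMonoid.End (Additive V) := (autToEnd V).comp ψ with hf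
  have hcomm : ∀ x ∈ Set.range f, ∀ y ∈ Set.range f, x * y = y * x := by
    rintro _ ⟨a, rfl⟩ _ ⟨b, rfl⟩
    rw [← map_mul, ← map_mul, hA]
  set S := Subring.closure (Set.range f) with hS
  letI : CommRing S := Subring.closureCommRingOfComm hcomm
  have hinj : ∀ e : S, e ≠ 0 → Function.Injective (e.1 : Additive V →+ Additive V) := by
    intro e he
    let W : Subgroup V :=
      { carrier := {v | e.1 (Additive.ofMul v) = 0}
        mul_mem' := by
          intro x y hx hy
          show e.1 (Additive.ofMul (x * y)) = 0
          rw [ofMul_mul, map_add, hx, hy, add_zero]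
        one_mem' := by
          show e.1 (Additive.ofMul 1) = 0
          rw [ofMul_one, map_zero]
        inv_mem' := by
          intro x hx
          show e.1 (Additive.ofMul x⁻¹) = 0
          rw [ofMul_inv, map_neg, hx, neg_zero] }
    have hW : ∀ a, ∀ w ∈ W, ψ a w ∈ W := by
      intro a w hw
      show e.1 (Additive.ofMul (ψ a w)) = 0
      have h1 : e * ⟨f a, Subring.subset_closure ⟨a, rfl⟩⟩ = ⟨f a, Subring.subset_closure ⟨a, rfl⟩⟩ * e :=
        mul_comm _ _
      have h2 : e.1 * f a = f a * e.1 := congrArg Subtype.val h1
      have h3 := congrArg (fun g : AddMonoid.End (Additive V) => g (Additive.ofMul w)) h2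
      have h4 : e.1 (f a (Additive.ofMul w)) = f a (e.1 (Additive.ofMul w)) := h3
      have h5 : e.1 (Additive.ofMul w) = 0 := hw
      rw [h5, map_zero] at h4
      exact h4
    rcases hirr W hW with h | h
    · rw [injective_iff_map_eq_zero]
      intro v hv
      have : Additive.toMul v ∈ W := hv
      rw [h, Subgroup.mem_bot] at this
      exact this
    · exfalso
      apply he
      apply Subtype.ext
      ext v
      have : Additive.toMul v ∈ W := by rw [h]; trivial
      exact this
  obtain ⟨v0, hv0⟩ := exists_ne (1 : V)
  have hnz : NoZeroDivisors S := by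
    refine ⟨?_⟩
    intro a b hab
    by_contra hcon
    push Not at hcon
    have h1 := (hinj a hcon.1).comp (hinj b hcon.2)
    have h2 : a.1 * b.1 = 0 := congrArg Subtype.val hab
    have h3 : a.1 (b.1 (Additive.ofMul v0)) = 0 :=
      congrArg (fun g : AddMonoid.End (Additive V) => g (Additive.ofMul v0)) h2
    have h4 : a.1 (b.1 (Additive.ofMul v0)) = a.1 (b.1 0) := by rw [h3, map_zero, map_zero]
    exact hv0 (h1 h4)
  have hnt : Nontrivial S := by
    refine ⟨⟨0, 1, ?_⟩⟩
    intro h
    have h2 : (0 : AddMonoid.End (Additive V)) = 1 := congrArg Subtype.val h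
    have h3 : (0 : Additive V) = Additive.ofMul v0 :=
      congrArg (fun g : AddMonoid.End (Additive V) => g (Additive.ofMul v0)) h2
    exact hv0 h3.symm
  have hdom : IsDomain S := NoZeroDivisors.to_isDomain S
  let g : ψ.range →* S :=
    { toFun := fun φ => ⟨autToEnd V φ.1, by
        obtain ⟨a, ha⟩ := φ.2
        rw [← ha]
        exact Subring.subset_closure ⟨a, rfl⟩⟩
      map_one' := rfl
      map_mul' := fun _ _ => rfl }
  have hg : Function.Injective g := by
    intro φ χ h
    apply Subtype.ext
    apply autToEnd_injective V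
    exact congrArg Subtype.val h
  have hfin : Finite ψ.range := by
    have : Finite (Set.range ψ) := Set.finite_range ψ
    exact this
  exact isCyclic_of_subgroup_isDomain g hg

end Cfsg.Agent.Lib.Helper65
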