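import Mathlib
import Cfsg.Agent.Lib.Helper65.IrrCyclic

set_option autoImplicit false

namespace Cfsg.Agent.Lib.Helper65

open Polynomial in
/-- a finite commutative domain all of whose elements satisfy `y ^ n = y` (`n ≥ 2`) has at most `n` elements -/
theorem card_le_of_forall_pow_eq {S : Type*} [CommRing S] [IsDomain S] [Finite S] (n : ℕ) (hn : 1 < n)
    (h : ∀ y : S, y ^ n = y) : Nat.card S ≤ n := by
  classical
  have : Fintype S := Fintype.ofFinite S
  set f : S[X] := X ^ n - X with hf
  have hdeg : f.natDegree = n := by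
    have h1 : (X : S[X]).degree < (X ^ n : S[X]).degree := by
      rw [degree_X_pow, degree_X]
      exact mod_cast hn
    rw [hf, natDegree_eq_of_degree_eq (degree_sub_eq_left_of_degree_lt h1), natDegree_X_pow]
  have hne : f ≠ 0 := ne_zero_of_natDegree_gt (n := 1) (by rw [hdeg]; exact hn)
  have hsub : (Finset.univ : Finset S) ⊆ f.roots.toFinset := by
    intro y _
    rw [Multiset.mem_toFinset, mem_roots hne, IsRoot.def, hf]
    simp [h y]
  calc Nat.card S = (Finset.univ : Finset S).card := by rw [Nat.card_eq_fintype_card, Finset.card_univ]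
    _ ≤ f.roots.toFinset.card := Finset.card_le_card hsub
    _ ≤ Multiset.card f.roots := Multiset.toFinset_card_le _
    _ ≤ f.natDegree := card_roots' f
    _ = n := hdeg

/-- An automorphism `φ` of an elementary abelian `q`-group `V` acting irreducibly with `φ ^ (q ^ k) = φ`:
then `V` has at most `q ^ k` elements. -/
theorem card_le_of_irreducible_aut {V : Type*} [CommGroup V] [Finite V] [Nontrivial V] (φ : MulAut V)
    (q k : ℕ) [hqp : Fact q.Prime] (hk : k ≠ 0)
    (hq : ∀ v : V, v ^ q = 1) (hφ : φ ^ (q ^ k) = φ)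
    (hirr : ∀ W : Subgroup V, (∀ w ∈ W, φ w ∈ W) → W = ⊥ ∨ W = ⊤) : Nat.card V ≤ q ^ k := by
  classical
  set T : AddMonoid.End (Additive V) := autToEnd V φ with hT
  have hcomm : ∀ x ∈ ({T} : Set (AddMonoid.End (Additive V))), ∀ y ∈ ({T} : Set (AddMonoid.End (Additive V))),
      x * y = y * x := by
    rintro _ rfl _ rfl
    rfl
  set S := Subring.closure ({T} : Set (AddMonoid.End (Additive V))) with hS
  letI : CommRing S := Subring.closureCommRingOfComm hcomm
  have hTS : T ∈ S := Subring.subset_closure rfl
  have hinj : ∀ e : S, e ≠ 0 → Function.Injective (e.1 : Additive V →+ Additive V) := by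
    intro e he
    let W : Subgroup V :=
      { carrier := {v | e.1 (Additive.ofMul v) = 0}
        mul_mem' := by
          intro x y hx hy
          show e.1 (Additive.ofMul (x * y)) = 0
          rw [ofMul_mul, map_add, hx, hy, add_zero]
        one_mem' := by
          show e.1 (Additive.ofMul 1) = 0
          rw [ofMul_one, map_zero]
        inv_mem' := by
          intro x hx
          show e.1 (Additive.ofMul x⁻¹) = 0
          rw [ofMul_inv, map_neg, hx, neg_zero] }
    have hW : ∀ w ∈ W, φ w ∈ W := by
      intro w hw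
      show e.1 (Additive.ofMul (φ w)) = 0
      have h1 : e * ⟨T, hTS⟩ = ⟨T, hTS⟩ * e := mul_comm _ _
      have h2 : e.1 * T = T * e.1 := congrArg Subtype.val h1
      have h3 := congrArg (fun g : AddMonoid.End (Additive V) => g (Additive.ofMul w)) h2
      have h4 : e.1 (T (Additive.ofMul w)) = T (e.1 (Additive.ofMul w)) := h3
      have h5 : e.1 (Additive.ofMul w) = 0 := hw
      rw [h5, map_zero] at h4
      exact h4
    rcases hirr W hW with h | h
    · rw [injective_iff_map_eq_zero]
      intro v hv
      have : Additive.toMul v ∈ W := hv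
      rw [h, Subgroup.mem_bot] at this
      exact this
    · exfalso
      apply he
      apply Subtype.ext
      ext v
      have : Additive.toMul v ∈ W := by rw [h]; trivial
      exact this
  obtain ⟨v0, hv0⟩ := exists_ne (1 : V)
  have hnz : NoZeroDivisors S := by
    refine ⟨?_⟩
    intro a b hab
    by_contra hcon
    push Not at hcon
    have h1 := (hinj a hcon.1).comp (hinj b hcon.2)
    have h2 : a.1 * b.1 = 0 := congrArg Subtype.val hab
    have h3 : a.1 (b.1 (Additive.ofMul v0)) = 0 :=
      congrArg (fun g : AddMonoid.End (Additive V) => g (Additive.ofMul v0)) h2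
    have h4 : a.1 (b.1 (Additive.ofMul v0)) = a.1 (b.1 0) := by rw [h3, map_zero, map_zero]
    exact hv0 (h1 h4)
  have hnt : Nontrivial S := by
    refine ⟨⟨0, 1, ?_⟩⟩
    intro h
    have h2 : (0 : AddMonoid.End (Additive V)) = 1 := congrArg Subtype.val h
    have h3 : (0 : Additive V) = Additive.ofMul v0 :=
      congrArg (fun g : AddMonoid.End (Additive V) => g (Additive.ofMul v0)) h2
    exact hv0 h3.symm
  have hdom : IsDomain S := NoZeroDivisors.to_isDomain S
  have hfin : Finite S := by
    apply Finite.of_injective (fun e : S => (e.1 : Additive V → Additive V))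
    intro a b hab
    apply Subtype.ext
    exact DFunLike.coe_injective hab
  have hchar : CharP S q := by
    rw [CharP.charP_iff_prime_eq_zero hqp.out]
    apply Subtype.ext
    ext v
    show ((q : S) : AddMonoid.End (Additive V)) v = 0
    have h1 : ((q : S) : AddMonoid.End (Additive V)) = (q : AddMonoid.End (Additive V)) := by
      simp
    rw [h1, AddMonoid.End.natCast_apply]
    exact hq (Additive.toMul v)
  have hfrob : ∀ y : S, y ^ (q ^ k) = y := by
    rintro ⟨y, hy⟩
    induction hy using Subring.closure_induction with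
    | mem x hx =>
      obtain rfl : x = T := hx
      apply Subtype.ext
      show T ^ (q ^ k) = T
      rw [hT, ← map_pow, hφ]
    | zero =>
      exact zero_pow (pow_ne_zero k hqp.out.ne_zero)
    | one => exact one_pow _
    | add x y hx hy ihx ihy =>
      have : (⟨x + y, Subring.add_mem _ hx hy⟩ : S) = ⟨x, hx⟩ + ⟨y, hy⟩ := rfl
      rw [this, add_pow_char_pow, ihx, ihy]
    | neg x hx ihx =>
      have : (⟨-x, Subring.neg_mem _ hx⟩ : S) = -⟨x, hx⟩ := rfl
      rw [this, neg_pow, ihx, neg_one_pow_char_pow, neg_one_mul]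
    | mul x y hx hy ihx ihy =>
      have : (⟨x * y, Subring.mul_mem _ hx hy⟩ : S) = ⟨x, hx⟩ * ⟨y, hy⟩ := rfl
      rw [this, mul_pow, ihx, ihy]
  have hcardS : Nat.card S ≤ q ^ k :=
    card_le_of_forall_pow_eq (q ^ k) (Nat.one_lt_pow hk hqp.out.one_lt) hfrob
  refine le_trans ?_ hcardS
  let W : Subgroup V :=
    { carrier := {v | ∃ e : S, Additive.toMul (e.1 (Additive.ofMul v0)) = v}
      mul_mem' := by
        rintro _ _ ⟨a, rfl⟩ ⟨b, rfl⟩
        exact ⟨a + b, rfl⟩
      one_mem' := ⟨0, rfl⟩
      inv_mem' := by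
        rintro _ ⟨a, rfl⟩
        exact ⟨-a, rfl⟩ }
  have hW : ∀ w ∈ W, φ w ∈ W := by
    rintro _ ⟨a, rfl⟩
    exact ⟨⟨T, hTS⟩ * a, rfl⟩
  have hWtop : W = ⊤ := by
    rcases hirr W hW with h | h
    · exfalso
      have : v0 ∈ W := ⟨1, rfl⟩
      rw [h, Subgroup.mem_bot] at this
      exact hv0 this
    · exact h
  apply Nat.card_le_card_of_surjective (fun e : S => Additive.toMul (e.1 (Additive.ofMul v0)))
  intro v
  have : v ∈ W := by rw [hWtop]; trivial
  exact this

end Cfsg.Agent.Lib.Helper65
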