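import Mathlib
import Cfsg.Prelude
import Cfsg.Agent.Lib.Helper65.IrrPrime

set_option autoImplicit false

namespace Cfsg.Agent.Lib.Helper65

/-- `A` normal of prime index and `c ∉ A`: then `A ⊔ ⟨c⟩ = ⊤`. -/
theorem sup_zpowers_eq_top_of_index_prime {G : Type*} [Group G] {p : ℕ} (hp : p.Prime)
    (A : Subgroup G) (hidx : A.index = p) (c : G) (hc : c ∉ A) : A ⊔ Subgroup.zpowers c = ⊤ := by
  have h1 : (A ⊔ Subgroup.zpowers c).index ∣ p := by
    rw [← hidx]; exact Subgroup.index_dvd_of_le le_sup_left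
  rcases (Nat.dvd_prime hp).mp h1 with h | h
  · exact Subgroup.index_eq_one.mp h
  · exfalso
    have h2 := Subgroup.relIndex_mul_index (le_sup_left : A ≤ A ⊔ Subgroup.zpowers c)
    rw [h, hidx] at h2
    have h3 : A.relIndex (A ⊔ Subgroup.zpowers c) = 1 := by
      have := hp.pos
      nlinarith [Nat.eq_of_mul_eq_mul_right this (by rw [h2, one_mul] : A.relIndex (A ⊔ Subgroup.zpowers c) * p = 1 * p)]
    rw [Subgroup.relIndex_eq_one] at h3
    exact hc (h3 (Subgroup.mem_sup_right (Subgroup.mem_zpowers c)))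

/-- `A` abelian of prime index, centralized by some `c ∉ A`: the group is abelian. -/
theorem comm_of_centralizing {G : Type*} [Group G] {p : ℕ} (hp : p.Prime) (A : Subgroup G)
    (hAcomm : ∀ a ∈ A, ∀ b ∈ A, a * b = b * a) (hidx : A.index = p) (c : G) (hc : c ∉ A)
    (hcen : ∀ a ∈ A, c * a = a * c) : ∀ x y : G, x * y = y * x := by
  have hsup := sup_zpowers_eq_top_of_index_prime hp A hidx c hc
  have h1 : A ≤ Subgroup.center G := by
    intro a ha
    rw [Subgroup.mem_center_iff]
    have h2 : (⊤ : Subgroup G) ≤ Subgroup.centralizer {a} := by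
      rw [← hsup]
      refine sup_le ?_ ?_
      · intro b hb
        rw [Subgroup.mem_centralizer_singleton_iff]
        exact hAcomm b hb a ha
      · rw [Subgroup.zpowers_le, Subgroup.mem_centralizer_singleton_iff]
        exact hcen a ha
    intro g
    exact Subgroup.mem_centralizer_singleton_iff.mp (h2 (Subgroup.mem_top g))
  have h3 : c ∈ Subgroup.center G := by
    rw [Subgroup.mem_center_iff]
    have h2 : (⊤ : Subgroup G) ≤ Subgroup.centralizer {c} := by
      rw [← hsup]
      refine sup_le ?_ ?_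
      · intro b hb
        rw [Subgroup.mem_centralizer_singleton_iff]
        exact (hcen b hb).symm
      · rw [Subgroup.zpowers_le, Subgroup.mem_centralizer_singleton_iff]
    intro g
    exact Subgroup.mem_centralizer_singleton_iff.mp (h2 (Subgroup.mem_top g))
  have h4 : (⊤ : Subgroup G) ≤ Subgroup.center G := by
    rw [← hsup]
    exact sup_le h1 (by rw [Subgroup.zpowers_le]; exact h3)
  intro x y
  exact (Subgroup.mem_center_iff.mp (h4 (Subgroup.mem_top y)) x)

theorem isPClosed_of_isPGroup {K : Type*} [Group K] {p : ℕ} (hK : IsPGroup p K) : Cfsg.IsPClosed p K := by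
  intro Q
  have h : (⊤ : Subgroup K) = Q := Q.is_maximal' (hK.to_subgroup ⊤) le_top
  rw [← h]
  infer_instance

theorem isPClosed_of_isPGroup_ne {K : Type*} [Group K] {p q : ℕ} (hp : p.Prime) (hq : q.Prime)
    (hne : q ≠ p) (hK : IsPGroup q K) :
    Cfsg.IsPClosed p K := by
  intro Q
  have : Fact p.Prime := ⟨hp⟩
  have : Fact q.Prime := ⟨hq⟩
  have h : Disjoint (Q : Subgroup K) (Q : Subgroup K) :=
    IsPGroup.disjoint_of_ne p q hne.symm _ _ Q.isPGroup' (hK.to_subgroup _)
  rw [disjoint_self] at h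
  rw [h]
  infer_instance

/-- A minimal normal elementary abelian `q`-subgroup of prime index `p ≠ q` in a non-abelian group has order
`q ^ e`, `e` the order of `q` modulo `p`. -/
theorem card_minNormal_of_index_prime {G : Type*} [Group G] [Finite G] {p q : ℕ} [Fact p.Prime]
    (hq : q.Prime) (hpq : q ≠ p) (hna : ¬ ∀ x y : G, x * y = y * x) (A : Subgroup G) [hAn : A.Normal]
    (hA : Cfsg.IsElementaryAbelian q A) (hidx : A.index = p)
    (hmin : ∀ B : Subgroup G, B.Normal → B ≤ A → B = ⊥ ∨ B = A) :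
    Nat.card ↥A = q ^ orderOf (q : ZMod p) := by
  classical
  have hp : p.Prime := Fact.out
  haveI : Fact q.Prime := ⟨hq⟩
  have hAcomm : ∀ a ∈ A, ∀ b ∈ A, a * b = b * a := by
    intro a ha b hb
    exact congrArg Subtype.val (hA.1.is_comm.comm ⟨a, ha⟩ ⟨b, hb⟩)
  have hAtop : A ≠ ⊤ := by
    intro h
    rw [h, Subgroup.index_top] at hidx
    exact hp.one_lt.ne hidx
  obtain ⟨c, hc⟩ : ∃ c, c ∉ A := by
    by_contra hcon
    push Not at hcon
    exact hAtop (eq_top_iff.mpr fun x _ => hcon x)
  have hsup := sup_zpowers_eq_top_of_index_prime hp A hidx c hc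
  have hnc : ¬ ∀ a ∈ A, c * a = a * c := fun hcen =>
    hna (comm_of_centralizing hp A hAcomm hidx c hc hcen)
  letI : CommGroup A := { (inferInstance : Group A) with mul_comm := hA.1.is_comm.comm }
  set φ : MulAut A := MulAut.conjNormal c with hφ
  have hφa : ∀ a : A, ((φ a : A) : G) = c * a * c⁻¹ := fun a => by simp [hφ]
  have hirr : ∀ W : Subgroup A, (∀ w ∈ W, φ w ∈ W) → W = ⊥ ∨ W = ⊤ := by
    intro W hW
    set B := W.map A.subtype with hB
    have hBA : B ≤ A := Subgroup.map_subtype_le _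
    have hBn : B.Normal := by
      rw [← Subgroup.normalizer_eq_top_iff, eq_top_iff, ← hsup]
      refine sup_le ?_ ?_
      · rw [Subgroup.le_normalizer_iff]
        intro a ha b hb
        rw [hAcomm a ha b (hBA hb), mul_inv_cancel_right]
        exact hb
      · rw [Subgroup.zpowers_le, Subgroup.mem_normalizer_iff_map_conj_eq]
        apply Subgroup.eq_of_le_of_card_ge
        · rintro _ ⟨_, ⟨w, hw, rfl⟩, rfl⟩
          exact ⟨φ w, hW w hw, hφa w⟩
        · exact (Subgroup.card_map_of_injective (MulAut.conj c).injective).ge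
    rcases hmin B hBn hBA with h | h
    · left
      apply Subgroup.map_injective A.subtype_injective
      rw [← hB, h, Subgroup.map_bot]
    · right
      apply Subgroup.map_injective A.subtype_injective
      rw [← hB, h, ← MonoidHom.range_eq_map, Subgroup.range_subtype]
  have hAne : A ≠ ⊥ := by
    intro h
    apply hnc
    intro a ha
    rw [h, Subgroup.mem_bot] at ha
    rw [ha, mul_one, one_mul]
  have hnt : Nontrivial A := (Subgroup.nontrivial_iff_ne_bot A).mpr hAne
  have hφp : φ ^ p = 1 := by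
    ext a
    have h1 : c ^ p ∈ A := by
      have := A.pow_index_mem c
      rwa [hidx] at this
    have h2 : φ ^ p = MulAut.conjNormal (c ^ p) := by rw [hφ, map_pow]
    rw [h2]
    simp only [MulAut.conjNormal_apply, MulAut.one_apply]
    rw [hAcomm _ h1 a a.2, mul_inv_cancel_right]
  set k := orderOf (q : ZMod p) with hk
  have hq0 : (q : ZMod p) ≠ 0 := by
    intro h
    rw [ZMod.natCast_eq_zero_iff] at h
    exact hpq ((Nat.prime_dvd_prime_iff_eq hp hq).mp h).symm
  have hk0 : k ≠ 0 := by
    intro h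
    have h1 : k ∣ p - 1 := orderOf_dvd_of_pow_eq_one (ZMod.pow_card_sub_one_eq_one hq0)
    rw [h, zero_dvd_iff] at h1
    have := hp.one_lt
    omega
  have hqk : ∃ m, q ^ k = 1 + p * m := by
    have h1 : ((q ^ k : ℕ) : ZMod p) = ((1 : ℕ) : ZMod p) := by
      push_cast
      exact pow_orderOf_eq_one _
    rw [ZMod.natCast_eq_natCast_iff] at h1
    have h2 : 1 ≤ q ^ k := Nat.one_le_pow _ _ hq.pos
    obtain ⟨m, hm⟩ := (Nat.modEq_iff_dvd' h2).mp h1.symm
    exact ⟨m, by omega⟩
  obtain ⟨m, hm⟩ := hqk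
  have hφqk : φ ^ (q ^ k) = φ := by
    rw [hm, pow_add, pow_one, pow_mul, hφp, one_pow, mul_one]
  have hupper := card_le_of_irreducible_aut φ q k hk0
    (fun v => Subtype.ext (by simpa using hA.2 v.1 v.2)) hφqk hirr
  have hAq : IsPGroup q A := by
    intro x
    exact ⟨1, Subtype.ext (by simpa using hA.2 x.1 x.2)⟩
  obtain ⟨e, he⟩ := hAq.exists_card_eq
  -- fixed points
  have hfix : ∀ a : A, φ a = a → a = 1 := by
    let W : Subgroup A :=
      { carrier := {a | φ a = a}
        mul_mem' := by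
          intro x y hx hy
          show φ (x * y) = x * y
          rw [map_mul, hx, hy]
        one_mem' := map_one φ
        inv_mem' := by
          intro x hx
          show φ x⁻¹ = x⁻¹
          rw [map_inv, hx] }
    have hW : ∀ w ∈ W, φ w ∈ W := by
      intro w hw
      have hw' : φ w = w := hw
      show φ (φ w) = φ w
      rw [hw', hw']
    rcases hirr W hW with h | h
    · intro a ha
      have : a ∈ W := ha
      rwa [h, Subgroup.mem_bot] at this
    · exfalso
      apply hnc
      intro a ha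
      have h1 : (⟨a, ha⟩ : A) ∈ W := by rw [h]; trivial
      have h2 : φ ⟨a, ha⟩ = ⟨a, ha⟩ := h1
      have h3 := hφa ⟨a, ha⟩
      rw [h2] at h3
      exact (mul_inv_eq_iff_eq_mul.mp h3.symm)
  have hZp : IsPGroup p (Subgroup.zpowers φ) := by
    rintro ⟨x, hx⟩
    obtain ⟨j, rfl⟩ := Subgroup.mem_zpowers_iff.mp hx
    refine ⟨1, Subtype.ext ?_⟩
    show (φ ^ j) ^ p ^ 1 = 1
    rw [pow_one, ← zpow_natCast, ← zpow_mul, mul_comm, zpow_mul, zpow_natCast, hφp, one_zpow]
  have hmod := hZp.card_modEq_card_fixedPoints A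
  have hfp : Nat.card (MulAction.fixedPoints (Subgroup.zpowers φ) A) = 1 := by
    rw [Nat.card_eq_one_iff_unique]
    refine ⟨⟨?_⟩, ⟨⟨1, fun g => by
      show (g : MulAut A) 1 = 1
      exact map_one _⟩⟩⟩
    rintro ⟨a, ha⟩ ⟨b, hb⟩
    apply Subtype.ext
    have h1 : a = 1 := hfix a (ha ⟨φ, Subgroup.mem_zpowers φ⟩)
    have h2 : b = 1 := hfix b (hb ⟨φ, Subgroup.mem_zpowers φ⟩)
    exact h1.trans h2.symm
  rw [hfp, he] at hmod
  have hke : k ∣ e := by
    apply orderOf_dvd_of_pow_eq_one
    have := (ZMod.natCast_eq_natCast_iff _ _ _).mpr hmod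
    push_cast at this
    exact this
  have he0 : e ≠ 0 := by
    intro h
    rw [h, pow_zero] at he
    exact hAne (Subgroup.card_eq_one.mp he)
  rw [he] at hupper ⊢
  have h1 : e ≤ k := (Nat.pow_le_pow_iff_right hq.one_lt).mp hupper
  have h2 : k ≤ e := Nat.le_of_dvd (Nat.pos_of_ne_zero he0) hke
  rw [le_antisymm h1 h2]

end Cfsg.Agent.Lib.Helper65
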