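import Mathlib
import Cfsg.Prelude
import Cfsg.Agent.Lib.Helper65.MinNormalPrime
import Cfsg.Agent.Lib.Helper1.Coprime3
import Cfsg.Agent.Lib.Helper1.Coprime2
import Cfsg.Agent.Lib.Helper12.MinNormal
import Cfsg.Agent.Lib.Helper14.Basic
import Cfsg.Agent.Lib.Helper80.Cores

set_option autoImplicit false

namespace Cfsg.Agent.Lib.Helper65

open Cfsg.Agent.Lib.Helper1

/-- a minimal normal subgroup that is a `q`-group is elementary abelian -/
theorem isElementaryAbelian_of_minNormal {G : Type*} [Group G] [Finite G] {q : ℕ} [Fact q.Prime]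
    (N : Subgroup G) [hNn : N.Normal] (hNne : N ≠ ⊥)
    (hmin : ∀ B : Subgroup G, B.Normal → B ≤ N → B = ⊥ ∨ B = N) (hN : IsPGroup q N) :
    Cfsg.IsElementaryAbelian q N := by
  have hM : Cfsg.Agent.Lib.Helper12.IsMinNormal N := ⟨hNn, hNne, hmin⟩
  have hc : N ≤ Subgroup.centralizer (N : Set G) := hM.le_centralizer_of_isPGroup N hN le_rfl
  have hcomm : ∀ a ∈ N, ∀ b ∈ N, a * b = b * a := fun a ha b hb =>
    (Subgroup.mem_centralizer_iff.mp (hc hb) a ha)
  refine ⟨⟨⟨fun a b => Subtype.ext (hcomm a a.2 b b.2)⟩⟩, ?_⟩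
  let W : Subgroup G :=
    { carrier := {x | x ∈ N ∧ x ^ q = 1}
      mul_mem' := by
        rintro x y ⟨hx, hx1⟩ ⟨hy, hy1⟩
        refine ⟨N.mul_mem hx hy, ?_⟩
        rw [(show Commute x y from hcomm x hx y hy).mul_pow, hx1, hy1, one_mul]
      one_mem' := ⟨N.one_mem, one_pow _⟩
      inv_mem' := by
        rintro x ⟨hx, hx1⟩
        exact ⟨N.inv_mem hx, by rw [inv_pow, hx1, inv_one]⟩ }
  have hWn : W.Normal := by
    refine ⟨?_⟩
    rintro x ⟨hx, hx1⟩ g
    exact ⟨hNn.conj_mem x hx g, by rw [conj_pow, hx1, mul_one, mul_inv_cancel]⟩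
  have hWN : W ≤ N := fun x hx => hx.1
  have hWne : W ≠ ⊥ := by
    have hnt : Nontrivial N := (Subgroup.nontrivial_iff_ne_bot N).mpr hNne
    obtain ⟨n, hn0, hn⟩ := hN.nontrivial_iff_card.mp hnt
    have hdvd : q ∣ Nat.card N := by rw [hn]; exact dvd_pow_self q hn0.ne'
    obtain ⟨x, hx⟩ := exists_prime_orderOf_dvd_card' q hdvd
    intro h
    have h1 : (x : G) ∈ W := ⟨x.2, by
      have := pow_orderOf_eq_one x
      rw [hx] at this
      simpa using congrArg Subtype.val this⟩
    rw [h, Subgroup.mem_bot] at h1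
    have h2 : x = 1 := Subtype.ext h1
    rw [h2, orderOf_one] at hx
    exact (Fact.out : q.Prime).one_lt.ne hx
  rcases hmin W hWn hWN with h | h
  · exact absurd h hWne
  · intro a ha
    have : a ∈ W := by rw [h]; exact ha
    exact this.2

theorem minimal_structure {G : Type*} [Group G] [Finite G] {p : ℕ} [Fact p.Prime]
    (N : Subgroup G) [hNn : N.Normal] (hNne : N ≠ ⊥)
    (hmin : ∀ B : Subgroup G, B.Normal → B ≤ N → B = ⊥ ∨ B = N) (hpN : ¬ p ∣ Nat.card N)
    (P : Subgroup G) (hP : IsPGroup p P) (hPne : P ≠ ⊥) (hNP : N ⊔ P = ⊤)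
    (ha : ∀ H : Subgroup G, H ≠ ⊤ → ∀ X : Subgroup G, X ≤ H → X ≤ P → ¬ p ∣ X.relIndex H →
      H ≤ Subgroup.normalizer (X : Set G))
    (hb : ∀ M : Subgroup G, M.Normal → M ≤ P → M = ⊥) :
    ∃ q : ℕ, q.Prime ∧ q ≠ p ∧ Nat.card G = p * q ^ orderOf (q : ZMod p) ∧
      Nat.card ↥N = q ^ orderOf (q : ZMod p) ∧ Cfsg.IsElementaryAbelian q N := by
  have hp : p.Prime := Fact.out
  have hnN : ∀ H : Subgroup G, H ≤ Subgroup.normalizer (N : Set G) := by
    intro H
    rw [Subgroup.normalizer_eq_top]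
    exact le_top
  have hcopp : (Nat.card N).Coprime p := ((Nat.Prime.coprime_iff_not_dvd hp).mpr hpN).symm
  have hcopX : ∀ X : Subgroup G, X ≤ P → (Nat.card X).Coprime (Nat.card N) := by
    intro X hX
    obtain ⟨k, hk⟩ := (hP.to_le hX).exists_card_eq
    rw [hk]
    exact (hcopp.pow_right k).symm
  have hcardX : ∀ X : Subgroup G, X ≤ P → Nat.card (X ⊔ N : Subgroup G) = Nat.card X * Nat.card N :=
    fun X hX => card_sup_of_coprime_le_normalizer (hnN X) (hcopX X hX)
  have hcardG : Nat.card G = Nat.card P * Nat.card N := by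
    rw [← hcardX P le_rfl, sup_comm, hNP, Subgroup.card_top]
  have hNpos : 0 < Nat.card N := Nat.card_pos
  have hNPbot : N ⊓ P = ⊥ := (Subgroup.disjoint_of_coprime_natCard (hcopX P le_rfl).symm).eq_bot
  -- Step 1
  have hcardP : Nat.card P = p := by
    have hnt : Nontrivial P := (Subgroup.nontrivial_iff_ne_bot P).mpr hPne
    obtain ⟨K, hKn, hKi⟩ := Cfsg.Agent.Lib.Helper14.exists_normal_index_p hP
    set M := K.map P.subtype with hM
    have hMP : M ≤ P := Subgroup.map_subtype_le _
    have hcM : Nat.card M = Nat.card K := Subgroup.card_map_of_injective P.subtype_injective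
    have hcP : Nat.card M * p = Nat.card P := by
      rw [hcM, ← hKi]; exact K.card_mul_index
    set L := M ⊔ N with hL
    have hcL : Nat.card L = Nat.card M * Nat.card N := hcardX M hMP
    have hMpos : 0 < Nat.card M := Nat.card_pos
    have hLtop : L ≠ ⊤ := by
      intro h
      have h1 : Nat.card L = Nat.card G := by rw [h, Subgroup.card_top]
      rw [hcL, hcardG, ← hcP] at h1
      have h2 : Nat.card M * Nat.card N * 1 = Nat.card M * Nat.card N * p := by
        rw [mul_one]
        calc Nat.card M * Nat.card N = Nat.card M * p * Nat.card N := h1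
          _ = Nat.card M * Nat.card N * p := by ring
      have h3 := Nat.eq_of_mul_eq_mul_left (Nat.mul_pos hMpos hNpos) h2
      exact hp.one_lt.ne h3
    have hrel : M.relIndex L = Nat.card N := by
      have h1 := card_mul_relIndex (le_sup_left : M ≤ L)
      rw [hcL] at h1
      exact Nat.eq_of_mul_eq_mul_left hMpos h1
    have h1 := ha L hLtop M le_sup_left hMP (by rw [hrel]; exact hpN)
    have h2 : P ≤ Subgroup.normalizer (M : Set G) := by
      rw [← Subgroup.normal_subgroupOf_iff_le_normalizer hMP]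
      have : M.subgroupOf P = K := Subgroup.comap_map_eq_self_of_injective P.subtype_injective _
      rw [this]
      exact hKn
    have h3 : M.Normal := by
      rw [← Subgroup.normalizer_eq_top_iff, eq_top_iff, ← hNP]
      exact sup_le (le_sup_right.trans h1) h2
    have h4 := hb M h3 hMP
    rw [h4, Subgroup.card_bot, one_mul] at hcP
    exact hcP.symm
  have hidx : N.index = p := by
    have h1 := N.card_mul_index
    rw [hcardG, hcardP, mul_comm] at h1
    exact Nat.eq_of_mul_eq_mul_right hNpos (by rw [h1])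
  have hsolvP : Group.IsSolvable P := by
    have := hP.isNilpotent
    infer_instance
  -- Step 3
  obtain ⟨q, hq, Q, hQ, hPQ, hQP⟩ : ∃ q : ℕ, q.Prime ∧ ∃ Q : Subgroup G, IsSylowIn q Q N ∧
      P ≤ Subgroup.normalizer (Q : Set G) ∧ Q ⊔ P = ⊤ := by
    by_contra hall
    push Not at hall
    have hcen : N ≤ Subgroup.centralizer (P : Set G) := by
      have h1 : (N ⊓ Subgroup.centralizer (P : Set G)).relIndex N = 1 := by
        rw [Nat.eq_one_iff_not_exists_prime_dvd]
        intro q hq hdvd
        haveI : Fact q.Prime := ⟨hq⟩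
        obtain ⟨Q, hQ, hPQ⟩ := coprime_exists_invariant_sylow P N (hnN P) (hcopX P le_rfl)
          (Or.inl hsolvP) q
        have hH := hall q hq Q hQ hPQ
        have hrel : ¬ p ∣ P.relIndex (Q ⊔ P) := by
          have h2 := card_mul_relIndex (le_sup_right : P ≤ Q ⊔ P)
          have h3 := Cfsg.Agent.Lib.Helper80.card_sup_dvd' P Q hPQ
          rw [sup_comm, ← h2] at h3
          have h4 : P.relIndex (Q ⊔ P) ∣ Nat.card Q :=
            Nat.dvd_of_mul_dvd_mul_left Nat.card_pos h3
          intro h5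
          exact hpN ((h5.trans h4).trans (Subgroup.card_dvd_of_le hQ.1))
        have h6 := ha _ hH P le_sup_right le_rfl hrel
        have hQnP : Q ≤ Subgroup.normalizer (P : Set G) := le_sup_left.trans h6
        have h7 : ⁅Q, P⁆ = ⊥ := by
          rw [eq_bot_iff, ← hNPbot]
          refine le_inf ((commutator_le_left_of_le_normalizer hPQ).trans hQ.1) ?_
          rw [Subgroup.commutator_comm]
          exact commutator_le_left_of_le_normalizer hQnP
        have h8 : Q ≤ N ⊓ Subgroup.centralizer (P : Set G) :=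
          le_inf hQ.1 (Subgroup.commutator_eq_bot_iff_le_centralizer.mp h7)
        exact hQ.2.2 (hdvd.trans (Subgroup.relIndex_dvd_of_le_left N h8))
      rw [Subgroup.relIndex_eq_one] at h1
      exact h1.trans inf_le_right
    have hPn : P.Normal := by
      rw [← Subgroup.normalizer_eq_top_iff, eq_top_iff, ← hNP]
      exact sup_le (hcen.trans (Subgroup.centralizer_le_normalizer _)) Subgroup.le_normalizer
    exact hPne (hb P hPn le_rfl)
  haveI : Fact q.Prime := ⟨hq⟩
  have hNQ : N ≤ Q := by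
    intro n hn
    have h1 : n ∈ P ⊔ Q := by rw [sup_comm, hQP]; trivial
    obtain ⟨y, hy, x, hx, rfl⟩ := (mem_sup_of_le_normalizer hPQ).mp h1
    have h2 : y ∈ N ⊓ P := by
      refine ⟨?_, hy⟩
      have : y = y * x * x⁻¹ := by group
      rw [this]
      exact N.mul_mem hn (N.inv_mem (hQ.1 hx))
    rw [hNPbot, Subgroup.mem_bot] at h2
    rw [h2, one_mul]
    exact hx
  have hNq : IsPGroup q N := hQ.2.1.to_le hNQ
  have hqp : q ≠ p := by
    rintro rfl
    have hnt : Nontrivial N := (Subgroup.nontrivial_iff_ne_bot N).mpr hNne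
    obtain ⟨n, hn0, hn⟩ := hNq.nontrivial_iff_card.mp hnt
    apply hpN
    rw [hn]; exact dvd_pow_self q hn0.ne'
  have hEA := isElementaryAbelian_of_minNormal N hNne hmin hNq
  have hna : ¬ ∀ x y : G, x * y = y * x := by
    intro h
    have hPn : P.Normal := by
      refine ⟨fun x hx g => ?_⟩
      rw [h g x, mul_inv_cancel_right]
      exact hx
    exact hPne (hb P hPn le_rfl)
  have hcN := card_minNormal_of_index_prime hq hqp hna N hEA hidx hmin
  exact ⟨q, hq, hqp, by rw [hcardG, hcardP, hcN], hcN, hEA⟩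

end Cfsg.Agent.Lib.Helper65
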