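import Mathlib

set_option autoImplicit false

namespace Cfsg.Agent.Lib.Helper65.PIT

open scoped commutatorElement

/-- adjugate trick -/
theorem det_smul_eq_zero {R M J : Type*} [CommRing R] [AddCommGroup M] [Module R M] [Fintype J]
    [DecidableEq J] (γ : Matrix J J R) (y : J → M) (h : ∀ i, ∑ j, γ i j • y j = 0) (k : J) :
    γ.det • y k = 0 := by
  have h1 : ∑ i, γ.adjugate k i • ∑ j, γ i j • y j = 0 := by simp [h]
  have h2 : ∑ i, γ.adjugate k i • ∑ j, γ i j • y j = ∑ j, (γ.adjugate * γ) k j • y j := by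
    simp_rw [Finset.smul_sum, Matrix.mul_apply, Finset.sum_smul, smul_smul]
    exact Finset.sum_comm
  rw [h2, Matrix.adjugate_mul] at h1
  simpa [Matrix.smul_apply, Matrix.one_apply, ite_smul] using h1

/-- structure of a finite abelian group, in the form we need -/
theorem exists_basis (H : Type*) [CommGroup H] [Finite H] :
    ∃ (ι : Type) (_ : Fintype ι) (n : ι → ℕ) (b : ι → H),
      (∀ i, b i ^ n i = 1) ∧ Subgroup.closure (Set.range b) = ⊤ ∧ ∏ i, n i = Nat.card H := by
  classical
  obtain ⟨ι, _, n, hn, ⟨e⟩⟩ := CommGroup.equiv_prod_multiplicative_zmod_of_finite H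
  refine ⟨ι, inferInstance, n, fun i => e.symm (Pi.mulSingle i (Multiplicative.ofAdd 1)), ?_, ?_, ?_⟩
  · intro i
    rw [← map_pow, ← Pi.mulSingle_pow, ← ofAdd_nsmul]
    simp
  · rw [eq_top_iff]
    intro h _
    have h1 : h = e.symm (e h) := by simp
    rw [h1, ← Finset.univ_prod_mulSingle (e h), map_prod]
    refine Subgroup.prod_mem _ fun i _ => ?_
    have h2 : Pi.mulSingle i (e h i) =
        (Pi.mulSingle i (Multiplicative.ofAdd (1 : ZMod (n i))) :
          (i : ι) → Multiplicative (ZMod (n i))) ^ (ZMod.val (Multiplicative.toAdd (e h i))) := by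
      have : NeZero (n i) := ⟨by have := hn i; omega⟩
      rw [← Pi.mulSingle_pow, ← ofAdd_nsmul]
      simp
    rw [h2, map_pow]
    exact Subgroup.pow_mem _ (Subgroup.subset_closure (Set.mem_range_self i)) _
  · rw [Nat.card_congr e.toEquiv, Nat.card_pi]
    refine Finset.prod_congr rfl fun i _ => ?_
    exact (Nat.card_zmod (n i)).symm


section
variable {H : Type*} [CommGroup H]

/-- augmentation -/
noncomputable def aug : MonoidAlgebra ℤ H →+* ℤ :=
  (MonoidAlgebra.lift ℤ ℤ H (1 : H →* ℤ)).toRingHom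

theorem aug_of (h : H) : aug (MonoidAlgebra.of ℤ H h) = 1 := by
  simp [aug]

theorem aug_apply [Fintype H] (x : MonoidAlgebra ℤ H) : aug x = ∑ h, x.coeff h := by
  show MonoidAlgebra.lift ℤ ℤ H (1 : H →* ℤ) x = _
  rw [MonoidAlgebra.lift_apply, Finsupp.sum_fintype _ _ (by simp)]
  simp

theorem eq_norm [Fintype H] (x : MonoidAlgebra ℤ H)
    (hx : ∀ h, x * (MonoidAlgebra.of ℤ H h - 1) = 0) (he : aug x = Fintype.card H) :
    x = ∑ h, MonoidAlgebra.of ℤ H h := by
  classical
  have h1 : ∀ q, x.coeff q = x.coeff 1 := by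
    intro q
    have h2 := hx q⁻¹
    rw [mul_sub, mul_one, sub_eq_zero] at h2
    have h3 := congrArg (fun z => MonoidAlgebra.coeff z 1) h2
    simp only [MonoidAlgebra.of_apply, MonoidAlgebra.coeff_mul_single_apply] at h3
    simpa using h3
  rw [aug_apply, Finset.sum_congr rfl (fun q _ => h1 q)] at he
  simp only [Finset.sum_const, Finset.card_univ, nsmul_eq_mul] at he
  have hc : (Fintype.card H : ℤ) ≠ 0 := by
    exact_mod_cast Fintype.card_ne_zero
  have h4 : x.coeff 1 = 1 := by
    have : (Fintype.card H : ℤ) * (x.coeff 1 - 1) = 0 := by rw [mul_sub, he]; ring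
    rcases mul_eq_zero.mp this with h | h
    · exact absurd h hc
    · omega
  ext q
  rw [h1 q, h4]
  simp [MonoidAlgebra.coeff_sum, MonoidAlgebra.coeff_single, Finsupp.single_apply]

end


section
variable {G H M : Type*} [Group G] [CommGroup H] [AddCommGroup M] [Module (MonoidAlgebra ℤ H) M]

/-- crossed homomorphisms into a `ℤ[H]`-module -/
def IsCrossed (π : G →* H) (D : G → M) : Prop :=
  ∀ g k, D (g * k) = D g + MonoidAlgebra.of ℤ H (π g) • D k

variable {π : G →* H} {D : G → M} (hD : IsCrossed π D)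
include hD

theorem IsCrossed.one : D 1 = 0 := by
  have := hD 1 1
  rw [mul_one, map_one, map_one, one_smul] at this
  simpa using this

theorem IsCrossed.inv (g : G) : D g⁻¹ = - (MonoidAlgebra.of ℤ H (π g)⁻¹ • D g) := by
  have := hD g⁻¹ g
  rw [inv_mul_cancel, hD.one, map_inv] at this
  exact eq_neg_of_add_eq_zero_left this.symm

theorem IsCrossed.pow (g : G) (k : ℕ) :
    D (g ^ k) = (∑ i ∈ Finset.range k, MonoidAlgebra.of ℤ H (π g) ^ i) • D g := by
  induction k with
  | zero => simp [hD.one]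
  | succ k ih => rw [pow_succ, hD, ih, Finset.sum_range_succ, add_smul, map_pow, map_pow]

/-- the elements mapped into a submodule form a subgroup -/
def IsCrossed.sub (P : Submodule (MonoidAlgebra ℤ H) M) : Subgroup G where
  carrier := {g | D g ∈ P}
  mul_mem' := by
    intro a b ha hb
    show D (a * b) ∈ P
    rw [hD]
    exact P.add_mem ha (P.smul_mem _ hb)
  one_mem' := by
    show D 1 ∈ P
    rw [hD.one]
    exact P.zero_mem
  inv_mem' := by
    intro a ha
    show D a⁻¹ ∈ P
    rw [hD.inv]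
    exact P.neg_mem (P.smul_mem _ ha)

theorem IsCrossed.comm (g k : G) :
    D ⁅g, k⁆ = (MonoidAlgebra.of ℤ H (π g) - 1) • D k - (MonoidAlgebra.of ℤ H (π k) - 1) • D g := by
  have h1 : g * k = ⁅g, k⁆ * (k * g) := by
    rw [commutatorElement_def]; group
  have h2 := hD ⁅g, k⁆ (k * g)
  rw [← h1, hD g k, hD k g] at h2
  have h3 : π ⁅g, k⁆ = 1 := by
    rw [map_commutatorElement]
    exact commutatorElement_eq_one_iff_mul_comm.mpr (mul_comm _ _)
  rw [h3, map_one, one_smul] at h2
  rw [sub_smul, sub_smul, one_smul, one_smul]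
  have h4 : D ⁅g, k⁆ = D g + MonoidAlgebra.of ℤ H (π g) • D k
      - (D k + MonoidAlgebra.of ℤ H (π k) • D g) := eq_sub_of_add_eq h2.symm
  rw [h4]; abel

end

end Cfsg.Agent.Lib.Helper65.PIT
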