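import Cfsg.Agent.Lib.Helper65.PIT1

set_option autoImplicit false

namespace Cfsg.Agent.Lib.Helper65.PIT

open scoped commutatorElement

variable {G H M : Type*} [Group G] [CommGroup H] [AddCommGroup M] [Module (MonoidAlgebra ℤ H) M]

theorem norm_smul_crossed [Finite G] [Fintype H] {π : G →* H} (hπ : Function.Surjective π)
    (hker : π.ker ≤ commutator G) {δ : G → M} (hδ : IsCrossed π δ) (g : G) :
    (∑ h : H, MonoidAlgebra.of ℤ H h) • δ g = 0 := by
  classical
  set D : G → M × MonoidAlgebra ℤ H := fun g => (δ g, MonoidAlgebra.of ℤ H (π g) - 1) with hDdef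
  have hD : IsCrossed π D := by
    intro g k
    ext1
    · exact hδ g k
    · show MonoidAlgebra.of ℤ H (π (g * k)) - 1 = (MonoidAlgebra.of ℤ H (π g) - 1)
        + MonoidAlgebra.of ℤ H (π g) * (MonoidAlgebra.of ℤ H (π k) - 1)
      rw [map_mul, map_mul]; ring
  obtain ⟨ι, _, n, b, hb1, hb2, hb3⟩ := exists_basis H
  choose gl hgl using fun i => hπ (b i)
  have : Fintype π.ker := Fintype.ofFinite _
  let y : ι ⊕ π.ker → M × MonoidAlgebra ℤ H := Sum.elim (fun i => D (gl i)) (fun a => D a)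
  let B := Submodule.span (MonoidAlgebra ℤ H) (Set.range y)
  let I : Ideal (MonoidAlgebra ℤ H) := RingHom.ker aug
  have hI : ∀ h : H, MonoidAlgebra.of ℤ H h - 1 ∈ I := by
    intro h
    rw [RingHom.mem_ker, map_sub, aug_of, map_one, sub_self]
  have hB : ∀ g, D g ∈ B := by
    have h1 : π.ker ≤ hD.sub B := fun a ha => Submodule.subset_span ⟨Sum.inr ⟨a, ha⟩, rfl⟩
    have h2 : (hD.sub B).map π = ⊤ := by
      rw [eq_top_iff, ← hb2, Subgroup.closure_le]
      rintro _ ⟨i, rfl⟩
      exact ⟨gl i, Submodule.subset_span ⟨Sum.inl i, rfl⟩, hgl i⟩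
    intro g
    obtain ⟨s, hs, hsg⟩ : π g ∈ (hD.sub B).map π := by rw [h2]; trivial
    have h3 : s⁻¹ * g ∈ π.ker := by
      rw [MonoidHom.mem_ker, map_mul, map_inv, hsg, inv_mul_cancel]
    have h4 : g = s * (s⁻¹ * g) := by group
    rw [h4]; exact (hD.sub B).mul_mem hs (h1 h3)
  have hIB : ∀ a ∈ π.ker, D a ∈ I • B := by
    intro a ha
    have h1 : commutator G ≤ hD.sub (I • B) := by
      rw [commutator_def, Subgroup.commutator_le]
      intro g _ k _
      show D ⁅g, k⁆ ∈ I • B
      rw [hD.comm]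
      exact Submodule.sub_mem _ (Submodule.smul_mem_smul (hI _) (hB k))
        (Submodule.smul_mem_smul (hI _) (hB g))
    exact h1 (hker ha)
  let d : ι ⊕ π.ker → MonoidAlgebra ℤ H :=
    Sum.elim (fun i => ∑ k ∈ Finset.range (n i), MonoidAlgebra.of ℤ H (π (gl i)) ^ k) (fun _ => 1)
  have hrel : ∀ j, d j • y j ∈ I • B := by
    rintro (i | a)
    · show (∑ k ∈ Finset.range (n i), MonoidAlgebra.of ℤ H (π (gl i)) ^ k) • D (gl i) ∈ _
      rw [← hD.pow]
      apply hIB
      rw [MonoidHom.mem_ker, map_pow, hgl, hb1]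
    · show (1 : MonoidAlgebra ℤ H) • D a ∈ _
      rw [one_smul]; exact hIB a a.2
  have hrel' : ∀ j, ∃ μ : ι ⊕ π.ker → MonoidAlgebra ℤ H,
      (∀ k, μ k ∈ I) ∧ ∑ k, μ k • y k = d j • y j := by
    intro j
    obtain ⟨a, ha, hsum⟩ := (Submodule.mem_ideal_smul_span_iff_exists_sum I y _).1 (hrel j)
    refine ⟨a, ha, ?_⟩
    rw [← hsum, Finsupp.sum_fintype]
    intro; simp
  choose μ hμ1 hμ2 using hrel'
  let γ : Matrix (ι ⊕ π.ker) (ι ⊕ π.ker) (MonoidAlgebra ℤ H) := Matrix.diagonal d - Matrix.of μ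
  have hγ : ∀ i, ∑ j, γ i j • y j = 0 := by
    intro i
    simp only [γ, Matrix.sub_apply, Matrix.of_apply, sub_smul, Finset.sum_sub_distrib, hμ2]
    rw [sub_eq_zero]
    simp [Matrix.diagonal_apply, ite_smul]
  have hdet : ∀ x ∈ B, γ.det • x = 0 := by
    intro x hx
    induction hx using Submodule.span_induction with
    | mem x hx => obtain ⟨k, rfl⟩ := hx; exact det_smul_eq_zero γ y hγ k
    | zero => simp
    | add x y _ _ hx hy => rw [smul_add, hx, hy, add_zero]
    | smul r x _ hx => rw [smul_comm, hx, smul_zero]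
  have haug : aug γ.det = Fintype.card H := by
    rw [RingHom.map_det]
    have h1 : aug.mapMatrix γ = Matrix.diagonal (fun j => aug (d j)) := by
      ext i j
      have h2 : aug (μ i j) = 0 := hμ1 i j
      by_cases hij : i = j
      · subst hij
        simp [γ, h2]
      · simp [γ, h2, hij]
    rw [h1, Matrix.det_diagonal, Fintype.prod_sum_type]
    simp only [d, Sum.elim_inl, Sum.elim_inr, map_one, Finset.prod_const_one, mul_one, map_sum,
      map_pow, aug_of, one_pow, Finset.sum_const, Finset.card_range, nsmul_eq_mul]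
    rw [← Nat.card_eq_fintype_card, ← hb3]
    push_cast
    rfl
  have hN := eq_norm γ.det (fun h => by
    obtain ⟨g, rfl⟩ := hπ h
    exact congrArg Prod.snd (hdet _ (hB g))) haug
  rw [← hN]
  exact congrArg Prod.fst (hdet _ (hB g))

end Cfsg.Agent.Lib.Helper65.PIT
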