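import Cfsg.Agent.Lib.Helper65.PIT2

set_option autoImplicit false

namespace Cfsg.Agent.Lib.Helper65.PIT

variable {G H A : Type*} [Group G] [CommGroup H] [AddCommGroup A]

/-- the shift representation of `H` on functions `H → A` -/
def shiftRep (H A : Type*) [CommGroup H] [AddCommGroup A] : Representation ℤ H (H → A) where
  toFun h := LinearMap.funLeft ℤ A (fun q => h⁻¹ * q)
  map_one' := by
    ext f q
    simp [LinearMap.funLeft_apply]
  map_mul' h k := by
    ext f q
    simp [LinearMap.funLeft_apply, mul_assoc, mul_comm, mul_left_comm]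

theorem shiftRep_apply (h : H) (f : H → A) (q : H) : shiftRep H A h f q = f (h⁻¹ * q) := rfl

/-- abstract form of the principal ideal theorem -/
theorem sum_cocycle_eq_zero [Finite G] [Fintype H] {π : G →* H} (hπ : Function.Surjective π)
    (hker : π.ker ≤ commutator G) (c : G → H → A)
    (hc : ∀ g k q, c (g * k) q = c g q + c k ((π g)⁻¹ * q)) (g : G) :
    ∑ q, c g q = 0 := by
  have h1 : IsCrossed π (fun g => (shiftRep H A).asModuleEquiv.symm (c g)) := by
    intro g k
    apply (shiftRep H A).asModuleEquiv.injective
    rw [map_add, Representation.asModuleEquiv_map_smul, Representation.asAlgebraHom_of]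
    simp only [LinearEquiv.apply_symm_apply]
    ext q
    rw [Pi.add_apply, shiftRep_apply]
    exact hc g k q
  have h2 := norm_smul_crossed hπ hker h1 g
  have h3 := congrArg (shiftRep H A).asModuleEquiv h2
  rw [Representation.asModuleEquiv_map_smul, map_sum, map_zero] at h3
  simp only [Representation.asAlgebraHom_of, LinearEquiv.apply_symm_apply] at h3
  have h4 := congrFun h3 1
  simp only [LinearMap.sum_apply, Finset.sum_apply, shiftRep_apply, mul_one, Pi.zero_apply] at h4
  rw [← h4]
  exact (Equiv.sum_comp (Equiv.inv H) (c g)).symm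

end Cfsg.Agent.Lib.Helper65.PIT
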