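import Cfsg.Agent.Lib.Helper65.UnipCent2
import Cfsg.Agent.Lib.Helper48.AlgEmb
import Cfsg.Agent.Lib.Helper48.GLOrders

set_option autoImplicit false
set_option linter.unusedSectionVars false

namespace Cfsg.Agent.Lib.Helper65.UnipCent

open Module

theorem orderOf_dvd_sub {q r : ℕ} [Fact r.Prime] (hrq : ¬ r ∣ q) {a b : ℕ} (hba : b ≤ a)
    (h : q ^ a ≡ q ^ b [MOD r]) : orderOf ((q : ℕ) : ZMod r) ∣ a - b := by
  have h1 := (ZMod.natCast_eq_natCast_iff _ _ _).2 h
  push_cast at h1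
  have hq : ((q : ℕ) : ZMod r) ≠ 0 := by
    rw [Ne, ZMod.natCast_eq_zero_iff]; exact hrq
  apply orderOf_dvd_of_pow_eq_one
  have h2 : ((q : ℕ) : ZMod r) ^ b * ((q : ℕ) : ZMod r) ^ (a - b) = ((q : ℕ) : ZMod r) ^ b * 1 := by
    rw [← pow_add, mul_one, Nat.add_sub_cancel' hba, h1]
  exact mul_left_cancel₀ (pow_ne_zero _ hq) h2

theorem dvd_pow_orderOf_sub_one {q r : ℕ} (hq : 1 ≤ q) :
    r ∣ q ^ orderOf ((q : ℕ) : ZMod r) - 1 := by
  rw [← ZMod.natCast_eq_zero_iff, Nat.cast_sub (Nat.one_le_pow _ _ hq)]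
  push_cast
  rw [pow_orderOf_eq_one, sub_self]

theorem orderOf_dvd_of_dvd_pow_sub_one {q r j : ℕ} (hq : 1 ≤ q) (h : r ∣ q ^ j - 1) :
    orderOf ((q : ℕ) : ZMod r) ∣ j := by
  apply orderOf_dvd_of_pow_eq_one
  rw [← ZMod.natCast_eq_zero_iff, Nat.cast_sub (Nat.one_le_pow _ _ hq)] at h
  push_cast at h
  exact sub_eq_zero.1 h

section LB

variable {F V : Type*} [Field F] [Fintype F] [AddCommGroup V] [Module F V] [FiniteDimensional F V]

theorem orderOf_dvd_finrank_sub {r : ℕ} [Fact r.Prime] (hrq : ¬ r ∣ Fintype.card F)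
    (β : V →ₗ[F] V) (hβ : β ^ r = 1) (W : Submodule F V) (hW : ∀ w ∈ W, β w ∈ W) :
    orderOf ((Fintype.card F : ℕ) : ZMod r) ∣
      finrank F W - finrank F (W ⊓ LinearMap.ker (β - 1) : Submodule F V) :=
  orderOf_dvd_sub hrq (Submodule.finrank_mono inf_le_left) (modEq_of_invariant β hβ W hW)

theorem ker_sub_one_invariant (β γ : V →ₗ[F] V) (hc : Commute β γ) :
    ∀ w ∈ LinearMap.ker (β - 1), γ w ∈ LinearMap.ker (β - 1) := by
  intro w hw
  rw [LinearMap.mem_ker, LinearMap.sub_apply, sub_eq_zero] at hw ⊢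
  have : β (γ w) = γ (β w) := LinearMap.congr_fun hc.eq w
  rw [this, hw]
  rfl

theorem finrank_ker_lt (β : V →ₗ[F] V) (hβ1 : β ≠ 1) :
    finrank F (LinearMap.ker (β - 1)) < finrank F V := by
  apply Submodule.finrank_lt
  intro h
  apply hβ1
  ext v
  have : v ∈ LinearMap.ker (β - 1) := by rw [h]; trivial
  rw [LinearMap.mem_ker, LinearMap.sub_apply, sub_eq_zero] at this
  exact this

theorem dvd_of_commuting {r s n : ℕ} [Fact r.Prime] [Fact s.Prime] (hV : finrank F V = n)
    (hrq : ¬ r ∣ Fintype.card F) (hsq : ¬ s ∣ Fintype.card F)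
    (β γ : V →ₗ[F] V) (hβ : β ^ r = 1) (hβ1 : β ≠ 1) (hγ : γ ^ s = 1) (hγ1 : γ ≠ 1)
    (hc : Commute β γ)
    (hkl : orderOf ((Fintype.card F : ℕ) : ZMod r) ≤ orderOf ((Fintype.card F : ℕ) : ZMod s))
    (hn : n < orderOf ((Fintype.card F : ℕ) : ZMod r) + orderOf ((Fintype.card F : ℕ) : ZMod s)) :
    orderOf ((Fintype.card F : ℕ) : ZMod r) ∣ orderOf ((Fintype.card F : ℕ) : ZMod s) := by
  set k := orderOf ((Fintype.card F : ℕ) : ZMod r) with hk
  set l := orderOf ((Fintype.card F : ℕ) : ZMod s) with hl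
  have h1 := orderOf_dvd_finrank_sub hrq β hβ ⊤ (fun _ _ => trivial)
  have h2 := orderOf_dvd_finrank_sub hsq γ hγ ⊤ (fun _ _ => trivial)
  have h3 := orderOf_dvd_finrank_sub hsq γ hγ _ (ker_sub_one_invariant β γ hc)
  have h4 := orderOf_dvd_finrank_sub hrq β hβ _ (ker_sub_one_invariant γ β hc.symm)
  rw [top_inf_eq, finrank_top, hV, ← hk] at h1
  rw [top_inf_eq, finrank_top, hV, ← hl] at h2
  rw [← hl] at h3
  rw [← hk, inf_comm] at h4
  have h5 := finrank_ker_lt β hβ1
  have h6 := finrank_ker_lt γ hγ1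
  rw [hV] at h5 h6
  have h7 : finrank F (LinearMap.ker (β - 1) ⊓ LinearMap.ker (γ - 1) : Submodule F V) ≤
      finrank F (LinearMap.ker (β - 1)) := Submodule.finrank_mono inf_le_left
  have h8 : finrank F (LinearMap.ker (β - 1) ⊓ LinearMap.ker (γ - 1) : Submodule F V) ≤
      finrank F (LinearMap.ker (γ - 1)) := Submodule.finrank_mono inf_le_right
  generalize finrank F (LinearMap.ker (β - 1) ⊓ LinearMap.ker (γ - 1) : Submodule F V) = c at *
  generalize finrank F (LinearMap.ker (β - 1)) = a at *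
  generalize finrank F (LinearMap.ker (γ - 1)) = b at *
  have e1 : k ≤ n - a := Nat.le_of_dvd (by omega) h1
  have e2 : n - b = l := by
    obtain ⟨t, ht⟩ := h2
    have ht0 : t ≠ 0 := by rintro rfl; omega
    have ht2 : t < 2 := by
      by_contra hcon
      have : l * 2 ≤ l * t := Nat.mul_le_mul_left l (by omega)
      omega
    have : t = 1 := by omega
    rw [ht, this, mul_one]
  have e3 : a = c := by
    by_contra hcon
    have : l ≤ a - c := Nat.le_of_dvd (by omega) h3
    omega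
  subst e3
  have e4 : l = (n - a) - (b - a) := by omega
  rw [e4]
  exact Nat.dvd_sub h1 h4

end LB

section PSL

variable {F : Type*} [Field F] [Fintype F]

theorem orderOf_mk_of_coprime {G : Type*} [Group G] (N : Subgroup G) [N.Normal] (g : G)
    (h : Nat.Coprime (orderOf g) (Nat.card N)) :
    orderOf (QuotientGroup.mk g : G ⧸ N) = orderOf g := by
  apply Nat.dvd_antisymm
  · exact orderOf_map_dvd (QuotientGroup.mk' N) g
  · have h1 : g ^ orderOf (QuotientGroup.mk g : G ⧸ N) ∈ N := by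
      rw [← QuotientGroup.eq_one_iff, QuotientGroup.mk_pow, pow_orderOf_eq_one]
    have h2 := pow_card_eq_one' (x := (⟨_, h1⟩ : N))
    have h3 : (g ^ orderOf (QuotientGroup.mk g : G ⧸ N)) ^ Nat.card N = 1 := congrArg Subtype.val h2
    rw [← pow_mul] at h3
    exact h.dvd_of_dvd_mul_right (orderOf_dvd_of_pow_eq_one h3)

theorem card_center_dvd (n : ℕ) (hn : 1 ≤ n) :
    Nat.card (Subgroup.center (Matrix.SpecialLinearGroup (Fin n) F)) ∣ Fintype.card F - 1 := by
  rw [Helper6.card_center_SL_field (F := F) n hn]; exact Nat.gcd_dvd_right _ _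

/-- units of small algebras give elements of `PSL_n` -/
theorem exists_orderOf_PSL (A : Type*) [Ring A] [Algebra F A] [Module.Finite F A] (n : ℕ)
    (hn : 1 ≤ n) (h : finrank F A ≤ n) (u : Aˣ)
    (hu : Nat.Coprime (orderOf u) (Fintype.card F - 1)) :
    ∃ g : Matrix.ProjectiveSpecialLinearGroup (Fin n) F, orderOf g = orderOf u := by
  classical
  obtain ⟨φ, hφ⟩ := Helper48.exists_injective_units_hom (F := F) A n h
  have h0 : orderOf (φ u) = orderOf u := orderOf_injective φ hφ u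
  have hdet : Matrix.GeneralLinearGroup.det (φ u) = 1 := by
    rw [← orderOf_eq_one_iff]
    refine Nat.eq_one_of_dvd_coprimes hu ?_ ?_
    · rw [← h0]; exact orderOf_map_dvd _ _
    · rw [← Fintype.card_units]; exact orderOf_dvd_card
  let g1 : Matrix.SpecialLinearGroup (Fin n) F := ⟨(φ u).val, by
    have := congrArg Units.val hdet
    simpa using this⟩
  have h1 : Matrix.SpecialLinearGroup.toGL g1 = φ u := by
    ext; rfl
  have hinj : Function.Injective (Matrix.SpecialLinearGroup.toGL :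
      Matrix.SpecialLinearGroup (Fin n) F →* GL (Fin n) F) := by
    intro x y hxy
    apply Subtype.ext
    exact congrArg (fun z : GL (Fin n) F => (z : Matrix (Fin n) (Fin n) F)) hxy
  have h2 : orderOf g1 = orderOf u := by
    rw [← h0, ← h1]; exact (orderOf_injective _ hinj g1).symm
  refine ⟨QuotientGroup.mk g1, ?_⟩
  rw [← h2]
  apply orderOf_mk_of_coprime
  rw [h2]
  exact Nat.Coprime.coprime_dvd_right (card_center_dvd n hn) hu

theorem not_dvd_sub_one_of_two_le {q r : ℕ} (hq : 1 ≤ q) (h : 2 ≤ orderOf ((q : ℕ) : ZMod r)) :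
    ¬ r ∣ q - 1 := by
  intro h1
  have := orderOf_dvd_of_dvd_pow_sub_one (j := 1) hq (by simpa using h1)
  have := Nat.le_of_dvd one_pos this
  omega

/-- matrix version -/
theorem dvd_of_commuting_PSL (p : ℕ) [Fact p.Prime] [CharP F p] {r s n : ℕ} (hn : 1 ≤ n)
    (hr : r.Prime) (hs : s.Prime) (hrp : r ≠ p) (hsp : s ≠ p)
    (a b : Matrix.ProjectiveSpecialLinearGroup (Fin n) F) (ha : orderOf a = r) (hb : orderOf b = s)
    (hab : Commute a b) (h2k : 2 ≤ orderOf ((Fintype.card F : ℕ) : ZMod r))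
    (hkl : orderOf ((Fintype.card F : ℕ) : ZMod r) ≤ orderOf ((Fintype.card F : ℕ) : ZMod s))
    (hlt : n < orderOf ((Fintype.card F : ℕ) : ZMod r) + orderOf ((Fintype.card F : ℕ) : ZMod s)) :
    orderOf ((Fintype.card F : ℕ) : ZMod r) ∣ orderOf ((Fintype.card F : ℕ) : ZMod s) := by
  have : Fact r.Prime := ⟨hr⟩
  have : Fact s.Prime := ⟨hs⟩
  have hq : 1 ≤ Fintype.card F := Fintype.card_pos
  have hzq := card_center_dvd (F := F) n hn
  have hcr : Nat.Coprime r (Nat.card (Subgroup.center (Matrix.SpecialLinearGroup (Fin n) F))) :=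
    (Nat.Prime.coprime_iff_not_dvd hr).2 fun h =>
      not_dvd_sub_one_of_two_le hq h2k (h.trans hzq)
  have hcs : Nat.Coprime s (Nat.card (Subgroup.center (Matrix.SpecialLinearGroup (Fin n) F))) :=
    (Nat.Prime.coprime_iff_not_dvd hs).2 fun h =>
      not_dvd_sub_one_of_two_le hq (h2k.trans hkl) (h.trans hzq)
  obtain ⟨A, hA, hAa⟩ := exists_lift (G := Matrix.SpecialLinearGroup (Fin n) F) a r
    (by rw [← ha]; exact pow_orderOf_eq_one a)
  obtain ⟨B, hB, hBb⟩ := exists_lift (G := Matrix.SpecialLinearGroup (Fin n) F) b s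
    (by rw [← hb]; exact pow_orderOf_eq_one b)
  have hA1 : A ≠ 1 := by
    rintro rfl
    have h2 : a ^ Nat.card (Subgroup.center (Matrix.SpecialLinearGroup (Fin n) F)) = 1 := hAa.symm
    have h3 := orderOf_dvd_of_pow_eq_one h2
    rw [ha] at h3
    exact hr.one_lt.ne' (Nat.Coprime.eq_one_of_dvd hcr h3)
  have hB1 : B ≠ 1 := by
    rintro rfl
    have h2 : b ^ Nat.card (Subgroup.center (Matrix.SpecialLinearGroup (Fin n) F)) = 1 := hBb.symm
    have h3 := orderOf_dvd_of_pow_eq_one h2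
    rw [hb] at h3
    exact hs.one_lt.ne' (Nat.Coprime.eq_one_of_dvd hcs h3)
  have hAB : A * B = B * A := by
    apply commute_of_commute_mk hcr A B hA
    rw [hAa, hBb]
    exact (hab.pow_pow _ _)
  refine dvd_of_commuting (V := Fin n → F) (Module.finrank_fin_fun F)
    (not_dvd_card_of_ne p hr hrp) (not_dvd_card_of_ne p hs hsp)
    (Matrix.toLinAlgEquiv' A.1) (Matrix.toLinAlgEquiv' B.1) ?_ ?_ ?_ ?_ ?_ hkl hlt
  · rw [← map_pow]
    have : A.1 ^ r = 1 := congrArg Subtype.val hA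
    rw [this, map_one]
  · intro h
    apply hA1
    apply Subtype.ext
    show A.1 = 1
    apply Matrix.toLinAlgEquiv'.injective
    rw [h, map_one]
  · rw [← map_pow]
    have : B.1 ^ s = 1 := congrArg Subtype.val hB
    rw [this, map_one]
  · intro h
    apply hB1
    apply Subtype.ext
    show B.1 = 1
    apply Matrix.toLinAlgEquiv'.injective
    rw [h, map_one]
  · show _ * _ = _ * _
    rw [← map_mul, ← map_mul]
    have : A.1 * B.1 = B.1 * A.1 := congrArg Subtype.val hAB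
    rw [this]

/-- a prime `≠ p` dividing `|PSL_n(q)|` has `e(s,q) ≤ n` -/
theorem orderOf_le_of_dvd_card_PSL (p : ℕ) [Fact p.Prime] [CharP F p] {s n : ℕ} (hn : 1 ≤ n)
    (hs : s.Prime) (hsp : s ≠ p)
    (h : s ∣ Nat.card (Matrix.ProjectiveSpecialLinearGroup (Fin n) F)) :
    orderOf ((Fintype.card F : ℕ) : ZMod s) ≤ n := by
  have hq : 1 ≤ Fintype.card F := Fintype.card_pos
  have h1 := Helper6.card_PSL_field (F := F) n hn
  have h2 : s ∣ ∏ i : Fin n, (Fintype.card F ^ n - Fintype.card F ^ (i : ℕ)) := by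
    rw [← h1]
    exact Dvd.dvd.mul_left (Dvd.dvd.mul_left h _) _
  obtain ⟨i, _, hi⟩ := (Nat.Prime.prime hs).exists_mem_finset_dvd h2
  have h3 : Fintype.card F ^ n - Fintype.card F ^ (i : ℕ) =
      Fintype.card F ^ (i : ℕ) * (Fintype.card F ^ (n - i) - 1) := by
    rw [Nat.mul_sub_one, ← pow_add]
    congr 2
    have := i.2
    omega
  rw [h3] at hi
  have h4 : s ∣ Fintype.card F ^ (n - i) - 1 := by
    rcases hs.dvd_mul.1 hi with h | h
    · exact absurd (hs.dvd_of_dvd_pow h) (not_dvd_card_of_ne p hs hsp)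
    · exact h
  have h5 := orderOf_dvd_of_dvd_pow_sub_one hq h4
  have := Nat.le_of_dvd (by have := i.2; omega) h5
  omega

/-- an element of order `r` in the multiplicative group of the extension of degree `k` -/
theorem exists_unit_orderOf (p : ℕ) [Fact p.Prime] [CharP F p] (k m : ℕ) [NeZero k]
    (hm : m ∣ Fintype.card F ^ k - 1) :
    ∃ x : (FiniteField.Extension F p k)ˣ, orderOf x = m := by
  obtain ⟨x, hx⟩ := Helper48.exists_units_orderOf_eq (FiniteField.Extension F p k)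
  rw [FiniteField.natCard_extension, Nat.card_eq_fintype_card] at hx
  have hx0 : orderOf x ≠ 0 := (orderOf_pos x).ne'
  exact ⟨x ^ (orderOf x / m), orderOf_pow_orderOf_div hx0 (hx ▸ hm)⟩

end PSL

end Cfsg.Agent.Lib.Helper65.UnipCent
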