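import Cfsg.Agent.Lib.Helper65.UnipCent
import Cfsg.Agent.Lib.Helper6.SLCard

set_option autoImplicit false

namespace Cfsg.Agent.Lib.Helper65.UnipCent

open Module

variable {F : Type*} [Field F] [Fintype F]

theorem not_dvd_card_of_ne (p : ℕ) [Fact p.Prime] [CharP F p] {r : ℕ} (hr : r.Prime) (hrp : r ≠ p) :
    ¬ r ∣ Fintype.card F := by
  obtain ⟨k, hp, hk⟩ := FiniteField.card F p
  rw [hk]
  intro h
  exact hrp ((Nat.prime_dvd_prime_iff_eq hr hp).1 (hr.dvd_of_dvd_pow h))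

/-- matrix version -/
theorem exists_dvd_matrix (p : ℕ) [Fact p.Prime] [CharP F p] {r n : ℕ} [Fact r.Prime] (hrp : r ≠ p)
    (hn : 3 ≤ n) (A B : Matrix (Fin n) (Fin n) F) (hA : A ^ p = 1) (hA1 : A ≠ 1) (hB : B ^ r = 1)
    (hB1 : B ≠ 1) (hAB : A * B = B * A) :
    ∃ j, 1 ≤ j ∧ j ≤ n - 2 ∧ r ∣ Fintype.card F ^ j - 1 := by
  have : Nonempty (Fin n) := ⟨⟨0, by omega⟩⟩
  refine exists_dvd (V := Fin n → F) hn (Module.finrank_fin_fun F)
    (not_dvd_card_of_ne p Fact.out hrp) (Matrix.toLinAlgEquiv' B) (Matrix.toLinAlgEquiv' (A - 1))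
    ?_ ?_ ?_ p ?_ ?_
  · rw [← map_pow, hB, map_one]
  · intro h
    apply hB1
    apply Matrix.toLinAlgEquiv'.injective
    rw [h, map_one]
  · intro h
    apply hA1
    have : A - 1 = 0 := by
      apply Matrix.toLinAlgEquiv'.injective
      rw [h, map_zero]
    exact sub_eq_zero.1 this
  · rw [← map_pow, sub_pow_char_of_commute p (Commute.one_right A), hA, one_pow, sub_self, map_zero]
  · show _ * _ = _ * _
    rw [← map_mul, ← map_mul, mul_sub, sub_mul, hAB, mul_one, one_mul]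

section grp

variable {G : Type*} [Group G]

theorem exists_lift (x : G ⧸ Subgroup.center G) (s : ℕ) (hs : x ^ s = 1) :
    ∃ X : G, X ^ s = 1 ∧
      (QuotientGroup.mk X : G ⧸ Subgroup.center G) = x ^ Nat.card (Subgroup.center G) := by
  obtain ⟨X0, rfl⟩ := QuotientGroup.mk_surjective x
  refine ⟨X0 ^ Nat.card (Subgroup.center G), ?_, by rw [QuotientGroup.mk_pow]⟩
  rw [← QuotientGroup.mk_pow, QuotientGroup.eq_one_iff] at hs
  rw [← pow_mul, mul_comm, pow_mul]
  have := pow_card_eq_one' (x := (⟨X0 ^ s, hs⟩ : Subgroup.center G))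
  exact congrArg Subtype.val this

theorem commute_of_commute_mk {p : ℕ} (hp : Nat.Coprime p (Nat.card (Subgroup.center G))) (A B : G)
    (hA : A ^ p = 1)
    (h : Commute (QuotientGroup.mk A : G ⧸ Subgroup.center G) (QuotientGroup.mk B)) :
    A * B = B * A := by
  have hc : B * A * B⁻¹ * A⁻¹ ∈ Subgroup.center G := by
    rw [← QuotientGroup.eq_one_iff, QuotientGroup.mk_mul, QuotientGroup.mk_mul, QuotientGroup.mk_mul,
      QuotientGroup.mk_inv, QuotientGroup.mk_inv, ← h.eq]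
    group
  set c := B * A * B⁻¹ * A⁻¹ with hcdef
  have h1 : B * A * B⁻¹ = c * A := by rw [hcdef]; group
  have h2 : (c * A) ^ p = c ^ p := by
    have : Commute c A := (Subgroup.mem_center_iff.1 hc A).symm
    rw [this.mul_pow, hA, mul_one]
  have h3 : c ^ p = 1 := by
    rw [← h2, ← h1, conj_pow, hA]; group
  have h4 : c ^ Nat.card (Subgroup.center G) = 1 := by
    have := pow_card_eq_one' (x := (⟨c, hc⟩ : Subgroup.center G))
    exact congrArg Subtype.val this
  have h5 : c = 1 := by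
    rw [← orderOf_eq_one_iff]
    exact Nat.eq_one_of_dvd_coprimes hp (orderOf_dvd_of_pow_eq_one h3)
      (orderOf_dvd_of_pow_eq_one h4)
  rw [h5, one_mul] at h1
  exact (mul_inv_eq_iff_eq_mul.1 h1).symm

end grp

theorem exists_dvd_PSL (p : ℕ) [Fact p.Prime] [CharP F p] {r n : ℕ} (hr : r.Prime) (hrp : r ≠ p)
    (hn : 3 ≤ n) (a b : Matrix.ProjectiveSpecialLinearGroup (Fin n) F) (ha : orderOf a = p)
    (hb : orderOf b = r) (hab : Commute a b) :
    ∃ j, 1 ≤ j ∧ j ≤ n - 2 ∧ r ∣ Fintype.card F ^ j - 1 := by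
  have : Fact r.Prime := ⟨hr⟩
  have hp : p.Prime := Fact.out
  by_cases h1 : r ∣ Fintype.card F - 1
  · exact ⟨1, le_rfl, by omega, by simpa using h1⟩
  have hz := Helper6.card_center_SL_field (F := F) n (by omega)
  have hzq : Nat.card (Subgroup.center (Matrix.SpecialLinearGroup (Fin n) F)) ∣ Fintype.card F - 1 := by
    rw [hz]; exact Nat.gcd_dvd_right _ _
  have hpq : ¬ p ∣ Fintype.card F - 1 := by
    obtain ⟨k, _, hk⟩ := FiniteField.card F p
    intro h
    have h2 : p ∣ Fintype.card F := by rw [hk]; exact dvd_pow_self p k.ne_zero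
    have h3 : 1 ≤ Fintype.card F := Fintype.card_pos
    have h4 : p ∣ 1 := by
      have := (Nat.dvd_sub h2 h)
      rwa [Nat.sub_sub_self h3] at this
    exact hp.one_lt.ne' (Nat.dvd_one.1 h4)
  have hcp : Nat.Coprime p (Nat.card (Subgroup.center (Matrix.SpecialLinearGroup (Fin n) F))) :=
    (Nat.Prime.coprime_iff_not_dvd hp).2 fun h => hpq (h.trans hzq)
  have hcr : Nat.Coprime r (Nat.card (Subgroup.center (Matrix.SpecialLinearGroup (Fin n) F))) :=
    (Nat.Prime.coprime_iff_not_dvd hr).2 fun h => h1 (h.trans hzq)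
  obtain ⟨A, hA, hAa⟩ := exists_lift (G := Matrix.SpecialLinearGroup (Fin n) F) a p
    (by rw [← ha]; exact pow_orderOf_eq_one a)
  obtain ⟨B, hB, hBb⟩ := exists_lift (G := Matrix.SpecialLinearGroup (Fin n) F) b r
    (by rw [← hb]; exact pow_orderOf_eq_one b)
  have hA1 : A ≠ 1 := by
    rintro rfl
    have h2 : a ^ Nat.card (Subgroup.center (Matrix.SpecialLinearGroup (Fin n) F)) = 1 := hAa.symm
    have h3 := orderOf_dvd_of_pow_eq_one h2
    rw [ha] at h3
    exact hp.one_lt.ne' (Nat.Coprime.eq_one_of_dvd hcp h3)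
  have hB1 : B ≠ 1 := by
    rintro rfl
    have h2 : b ^ Nat.card (Subgroup.center (Matrix.SpecialLinearGroup (Fin n) F)) = 1 := hBb.symm
    have h3 := orderOf_dvd_of_pow_eq_one h2
    rw [hb] at h3
    exact hr.one_lt.ne' (Nat.Coprime.eq_one_of_dvd hcr h3)
  have hAB : A * B = B * A := by
    apply commute_of_commute_mk hcp A B hA
    rw [hAa, hBb]
    exact (hab.pow_pow _ _)
  refine exists_dvd_matrix p hrp hn A.1 B.1 ?_ ?_ ?_ ?_ ?_
  · exact congrArg Subtype.val hA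
  · intro h; exact hA1 (Subtype.ext h)
  · exact congrArg Subtype.val hB
  · intro h; exact hB1 (Subtype.ext h)
  · exact congrArg Subtype.val hAB

theorem card_SL_eq (k : ℕ) : Nat.card (Matrix.SpecialLinearGroup (Fin (k + 1)) F) =
    (∏ i : Fin k, (Fintype.card F ^ (k + 1) - Fintype.card F ^ (i : ℕ))) * Fintype.card F ^ k := by
  have h := Helper6.card_SL_field (F := F) (k + 1) (by omega)
  rw [Fin.prod_univ_castSucc] at h
  simp only [Fin.val_castSucc, Fin.val_last] at h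
  have hq : 2 ≤ Fintype.card F := Fintype.one_lt_card
  have h2 : Fintype.card F ^ (k + 1) - Fintype.card F ^ k = Fintype.card F ^ k * (Fintype.card F - 1) := by
    rw [Nat.mul_sub_one, pow_succ]
  rw [h2] at h
  have h3 : (Fintype.card F - 1) * Nat.card (Matrix.SpecialLinearGroup (Fin (k + 1)) F) =
      (Fintype.card F - 1) * ((∏ i : Fin k, (Fintype.card F ^ (k + 1) - Fintype.card F ^ (i : ℕ))) *
        Fintype.card F ^ k) := by
    rw [h]; ring
  exact Nat.eq_of_mul_eq_mul_left (by omega) h3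

theorem pow_sub_one_dvd_card_SL (m j : ℕ) (hj2 : 2 ≤ j) (hjm : j ≤ m) :
    Fintype.card F ^ j - 1 ∣ Nat.card (Matrix.SpecialLinearGroup (Fin m) F) := by
  obtain ⟨k, rfl⟩ : ∃ k, m = k + 1 := ⟨m - 1, by omega⟩
  rw [card_SL_eq]
  apply Dvd.dvd.mul_right
  have h1 : Fintype.card F ^ (k + 1) - Fintype.card F ^ (k + 1 - j) =
      Fintype.card F ^ (k + 1 - j) * (Fintype.card F ^ j - 1) := by
    rw [Nat.mul_sub_one, ← pow_add]
    congr 2
    omega
  have h2 : Fintype.card F ^ (k + 1) - Fintype.card F ^ (k + 1 - j) ∣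
      ∏ i : Fin k, (Fintype.card F ^ (k + 1) - Fintype.card F ^ (i : ℕ)) :=
    Finset.dvd_prod_of_mem (fun i : Fin k => Fintype.card F ^ (k + 1) - Fintype.card F ^ (i : ℕ))
      (Finset.mem_univ (⟨k + 1 - j, by omega⟩ : Fin k))
  exact (Dvd.intro_left _ h1.symm).trans h2

theorem card_dvd_card_SL (m : ℕ) (hm : 2 ≤ m) :
    Fintype.card F ∣ Nat.card (Matrix.SpecialLinearGroup (Fin m) F) := by
  obtain ⟨k, rfl⟩ : ∃ k, m = k + 1 := ⟨m - 1, by omega⟩
  rw [card_SL_eq]
  apply Dvd.dvd.mul_left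
  exact dvd_pow_self _ (by omega)

/-- a prime dividing `q ^ j - 1` for some `1 ≤ j ≤ m` divides `|SL_m(q)|` (`m ≥ 2`) -/
theorem dvd_card_SL_of_dvd (m j r : ℕ) (hm : 2 ≤ m) (hj1 : 1 ≤ j) (hjm : j ≤ m)
    (h : r ∣ Fintype.card F ^ j - 1) : r ∣ Nat.card (Matrix.SpecialLinearGroup (Fin m) F) := by
  rcases Nat.lt_or_ge j 2 with h1 | h1
  · obtain rfl : j = 1 := by omega
    refine (h.trans ?_).trans (pow_sub_one_dvd_card_SL (F := F) m 2 le_rfl hm)
    exact Nat.pow_sub_one_dvd_pow_sub_one _ (one_dvd 2)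
  · exact h.trans (pow_sub_one_dvd_card_SL m j h1 hjm)

end Cfsg.Agent.Lib.Helper65.UnipCent
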